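import Groth.Agent.EtRamTameLib.Base
import Mathlib.RingTheory.Etale.Basic
import Mathlib.RingTheory.Unramified.LocalRing
import Mathlib.RingTheory.LocalRing.ResidueField.Ideal

/-! A field generated by a finite étale algebra over a DVR is unramified. -/

set_option autoImplicit false
universe u

noncomputable section

namespace EtRamTameLib

open IsLocalRing

theorem finite_of_gen {A K L B : Type u} [CommRing A] [Field K] [Algebra A K] [Field L] [Algebra K L] [Algebra A L]
    [IsScalarTower A K L] [CommRing B] [Algebra A B] [Module.Finite A B] (ψ : B →ₐ[A] L)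
    (hgen : IntermediateField.adjoin K (Set.range ψ) = ⊤) : FiniteDimensional K L := by
  obtain ⟨s, hs⟩ := (Algebra.FiniteType.out : (⊤ : Subalgebra A B).FG)
  have hint : ∀ b : B, IsIntegral K (ψ b) := fun b => ((Algebra.IsIntegral.isIntegral (R := A) b).map ψ).tower_top
  have hle : Set.range ψ ⊆ IntermediateField.adjoin K (ψ '' (s : Set B)) := by
    rintro _ ⟨b, rfl⟩
    have h1 : ψ b ∈ Algebra.adjoin A (ψ '' (s : Set B)) := by
      rw [Algebra.adjoin_image, hs]; exact ⟨b, trivial, rfl⟩
    exact Algebra.adjoin_le (S := (IntermediateField.adjoin K (ψ '' (s : Set B))).toSubalgebra.restrictScalars A)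
      (IntermediateField.subset_adjoin K _) h1
  have htop : IntermediateField.adjoin K (ψ '' (s : Set B)) = ⊤ := top_unique (hgen ▸ IntermediateField.adjoin_le_iff.2 hle)
  have : Finite (ψ '' (s : Set B)) := (s.finite_toSet.image ψ).to_subtype
  have := IntermediateField.finiteDimensional_adjoin (K := K) (S := ψ '' (s : Set B)) (fun x hx => by
    obtain ⟨b, -, rfl⟩ := hx; exact hint b)
  rw [htop] at this
  exact Module.Finite.equiv IntermediateField.topEquiv.toLinearEquiv

theorem exists_mul_eq {A K L B : Type u} [CommRing A] [IsDomain A] [Field K] [Algebra A K] [IsFractionRing A K] [Field L]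
    [Algebra K L] [Algebra A L] [IsScalarTower A K L] [CommRing B] [Algebra A B] [Module.Finite A B] (ψ : B →ₐ[A] L)
    (hgen : IntermediateField.adjoin K (Set.range ψ) = ⊤) (z : L) :
    ∃ (b : B) (a : A), a ≠ 0 ∧ z * algebraMap A L a = ψ b := by
  have hint : ∀ x ∈ Set.range ψ, IsAlgebraic K x := fun x hx => by
    obtain ⟨b, rfl⟩ := hx
    exact (((Algebra.IsIntegral.isIntegral (R := A) b).map ψ).tower_top).isAlgebraic
  have hz : z ∈ Algebra.adjoin K (Set.range ψ) := by
    rw [← IntermediateField.adjoin_toSubalgebra_of_isAlgebraic hint, hgen]; trivial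
  induction hz using Algebra.adjoin_induction with
  | mem x hx => obtain ⟨b, rfl⟩ := hx; exact ⟨b, 1, one_ne_zero, by rw [map_one, mul_one]⟩
  | algebraMap r =>
    obtain ⟨n, d, hd, rfl⟩ := IsFractionRing.div_surjective A r
    refine ⟨algebraMap A B n, d, nonZeroDivisors.ne_zero hd, ?_⟩
    rw [AlgHom.commutes, IsScalarTower.algebraMap_apply A K L, ← map_mul,
      div_mul_cancel₀ _ ((map_ne_zero_iff _ (IsFractionRing.injective A K)).2 (nonZeroDivisors.ne_zero hd)),
      ← IsScalarTower.algebraMap_apply]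
  | add x y _ _ hx hy =>
    obtain ⟨b, a, ha, hb⟩ := hx
    obtain ⟨c, d, hd, hc⟩ := hy
    refine ⟨b * algebraMap A B d + c * algebraMap A B a, a * d, mul_ne_zero ha hd, ?_⟩
    simp only [map_add, map_mul, AlgHom.commutes, ← hb, ← hc]; ring
  | mul x y _ _ hx hy =>
    obtain ⟨b, a, ha, hb⟩ := hx
    obtain ⟨c, d, hd, hc⟩ := hy
    refine ⟨b * c, a * d, mul_ne_zero ha hd, ?_⟩
    rw [map_mul, map_mul, ← hb, ← hc]; ring

set_option maxHeartbeats 800000 in
theorem unramified_of_etale {A K L B : Type u} [CommRing A] [IsDomain A] [IsDiscreteValuationRing A] [Field K] [Algebra A K]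
    [IsFractionRing A K] [Field L] [Algebra K L] [Algebra A L] [IsScalarTower A K L] [CommRing B] [Algebra A B]
    [Module.Finite A B] [Algebra.Etale A B] (ψ : B →ₐ[A] L) (hgen : IntermediateField.adjoin K (Set.range ψ) = ⊤) :
    EtRam.IsUnramifiedExt A ((algebraMap K L).comp (algebraMap A K)) := by
  classical
  have := finite_of_gen ψ hgen
  have hAL : ∀ a : A, algebraMap A L a = algebraMap K L (algebraMap A K a) := IsScalarTower.algebraMap_apply A K L
  have hinj : Function.Injective (algebraMap A L) := by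
    rw [IsScalarTower.algebraMap_eq A K L]
    exact (algebraMap K L).injective.comp (IsFractionRing.injective A K)
  intro V hV
  letI : Algebra A V := (RingHom.codRestrict ((algebraMap K L).comp (algebraMap A K)) V hV.1).toAlgebra
  intro hloc
  have hψV : ∀ b : B, ψ b ∈ V := fun b => by
    have h1 : IsIntegral A (ψ b) := (Algebra.IsIntegral.isIntegral (R := A) b).map ψ
    obtain ⟨p, hp, hp0⟩ := h1
    have : IsIntegral V (ψ b) := ⟨p.map (algebraMap A V), hp.map _, by
      rw [Polynomial.eval₂_map, show (algebraMap V L).comp (algebraMap A V) = algebraMap A L from RingHom.ext fun a => (hAL a).symm]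
      exact hp0⟩
    obtain ⟨v, hv⟩ := IsIntegrallyClosed.isIntegral_iff.1 this
    exact hv ▸ v.2
  let ψV : B →+* V := ψ.toRingHom.codRestrict V.toSubring hψV
  have hψA : ∀ a : A, ψV (algebraMap A B a) = algebraMap A V a := fun a => Subtype.ext ((ψ.commutes a).trans (hAL a))
  let q : Ideal B := (maximalIdeal V).comap ψV
  haveI : q.IsPrime := Ideal.IsPrime.comap _
  let Bq := Localization.AtPrime q
  let φ : Bq →+* V := IsLocalization.lift (M := q.primeCompl) (g := ψV) fun s => not_not.1 s.2
  have hφ : ∀ b : B, φ (algebraMap B Bq b) = ψV b := fun b => IsLocalization.lift_eq _ b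
  haveI hlφ : IsLocalHom φ := ⟨fun x hx => by
    obtain ⟨b, s, rfl⟩ := IsLocalization.exists_mk'_eq q.primeCompl x
    refine (IsLocalization.AtPrime.isUnit_mk'_iff Bq q b s).2 fun hb => ?_
    have h1 := congrArg φ (IsLocalization.mk'_spec Bq b s)
    rw [map_mul, hφ, hφ] at h1
    exact (show ψV b ∈ maximalIdeal V from hb) (h1 ▸ hx.mul (not_not.1 s.2))⟩
  have hφA : ∀ a : A, φ (algebraMap A Bq a) = algebraMap A V a := fun a => by
    rw [IsScalarTower.algebraMap_apply A B Bq, hφ, hψA]
  haveI : IsLocalHom (algebraMap A Bq) := ⟨fun a ha => by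
    refine isUnit_of_map_unit (algebraMap A V) a ?_
    rw [← hφA]; exact ha.map φ⟩
  haveI : Algebra.EssFiniteType A Bq := Algebra.EssFiniteType.comp A B Bq
  haveI : Algebra.FormallyUnramified A Bq :=
    have : Algebra.FormallyUnramified B Bq := Algebra.FormallyUnramified.of_isLocalization q.primeCompl
    Algebra.FormallyUnramified.comp A B Bq
  have hmax : (maximalIdeal A).map (algebraMap A Bq) = maximalIdeal Bq := Algebra.FormallyUnramified.map_maximalIdeal
  obtain ⟨π, hπ⟩ := IsDiscreteValuationRing.exists_irreducible A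
  set πq := algebraMap A Bq π with hπq
  have hq : maximalIdeal Bq = Ideal.span {πq} := by
    rw [← hmax, hπ.maximalIdeal_eq, Ideal.map_span, Set.image_singleton]
  haveI : IsNoetherianRing B := Algebra.FiniteType.isNoetherianRing A B
  haveI : IsNoetherianRing Bq := IsLocalization.isNoetherianRing q.primeCompl _ ‹_›
  have hsplit : ∀ x : Bq, x ≠ 0 → ∃ (n : ℕ) (w : Bqˣ), x = w * πq ^ n := fun x hx => by
    have hex : ∃ n, ¬ πq ^ n ∣ x := by
      by_contra hall
      push Not at hall
      refine hx (Ideal.mem_bot.1 (Ideal.iInf_pow_eq_bot_of_isLocalRing (maximalIdeal Bq) (maximalIdeal.isMaximal Bq).ne_top ▸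
        Submodule.mem_iInf _ |>.2 fun n => ?_))
      rw [hq, Ideal.span_singleton_pow, Ideal.mem_span_singleton]; exact hall n
    obtain ⟨n, hn⟩ : ∃ n, Nat.find hex = n + 1 :=
      Nat.exists_eq_succ_of_ne_zero fun h0 => Nat.find_spec hex (by rw [h0, pow_zero]; exact one_dvd x)
    obtain ⟨w, hw⟩ := not_not.1 (Nat.find_min hex (show n < Nat.find hex by omega))
    have hwu : IsUnit w := by
      by_contra hnu
      have h1 : w ∈ Ideal.span {πq} := hq ▸ hnu
      obtain ⟨w', rfl⟩ := Ideal.mem_span_singleton.1 h1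
      exact Nat.find_spec hex ⟨w', by rw [hn, hw, pow_succ, mul_assoc]⟩
    exact ⟨n, hwu.unit, by rw [hw, IsUnit.unit_spec, mul_comm]⟩
  have hπV : (algebraMap A V π : V) ≠ 0 := fun h0 => hπ.ne_zero ((map_eq_zero_iff _ hinj).1 (by
    rw [hAL]; exact congrArg Subtype.val h0))
  have hφπ : ∀ n, φ (πq ^ n) = algebraMap A V π ^ n := fun n => by rw [map_pow, hφA]
  have key : ∀ z : V, ∀ n : ℕ, ∀ w : Bqˣ, ∀ a : A, a ≠ 0 → z * algebraMap A V a = φ (w * πq ^ n) →
      ∃ (k : ℕ) (w' : Bqˣ), z = φ w' * algebraMap A V π ^ k := by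
    intro z n w a ha hz
    obtain ⟨m, u, rfl⟩ := IsDiscreteValuationRing.eq_unit_mul_pow_irreducible ha hπ
    let uq : Bqˣ := Units.map (algebraMap A Bq).toMonoidHom u
    have h0 : φ (uq : Bq) = algebraMap A V u := hφA u
    have h1 : z * algebraMap A V π ^ m = φ (w * uq⁻¹ : Bqˣ) * algebraMap A V π ^ n := by
      refine (IsUnit.mul_left_inj ((u.isUnit).map (algebraMap A V))).1 ?_
      rw [show φ ((w * uq⁻¹ : Bqˣ) : Bq) * algebraMap A V π ^ n * algebraMap A V u
        = φ ((w * uq⁻¹ * uq : Bqˣ) : Bq) * algebraMap A V π ^ n by rw [Units.val_mul (w * uq⁻¹), map_mul, h0]; ring,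
        inv_mul_cancel_right, ← hφπ n, ← map_mul, ← hz, map_mul, map_pow]
      ring
    rcases le_or_gt m n with hmn | hmn
    · obtain ⟨k, rfl⟩ := Nat.exists_eq_add_of_le hmn
      refine ⟨k, w * uq⁻¹, mul_right_cancel₀ (pow_ne_zero m hπV) ?_⟩
      rw [h1, pow_add]; ring
    · exfalso
      obtain ⟨k, rfl⟩ := Nat.exists_eq_add_of_lt hmn
      have h2 : z * algebraMap A V π ^ (k + 1) = φ (w * uq⁻¹ : Bqˣ) := by
        refine mul_right_cancel₀ (pow_ne_zero n hπV) ?_
        rw [← h1]; ring
      have h3 : IsUnit (z * algebraMap A V π ^ (k + 1)) := h2 ▸ (Units.isUnit _).map φ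
      exact hπ.not_isUnit (isUnit_of_map_unit (algebraMap A V) π ((isUnit_pow_succ_iff).1 (isUnit_of_mul_isUnit_right h3)))
  have hall : ∀ z : V, z ≠ 0 → ∃ (k : ℕ) (w : Bqˣ), z = φ w * algebraMap A V π ^ k := fun z hz => by
    obtain ⟨b, a, ha, hb⟩ := exists_mul_eq ψ hgen (z : L)
    have hb' : z * algebraMap A V a = φ (algebraMap B Bq b) := by
      rw [hφ]
      exact Subtype.ext (by
        show (z : L) * algebraMap K L (algebraMap A K a) = ψ b
        rw [← hAL]; exact hb)
    have hne : algebraMap B Bq b ≠ 0 := fun h0 => by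
      rw [h0, map_zero, mul_eq_zero] at hb'
      exact hb'.elim hz fun h1 => ha ((map_eq_zero_iff _ hinj).1 (by rw [hAL]; exact congrArg Subtype.val h1))
    obtain ⟨n, w, hw⟩ := hsplit _ hne
    exact key z n w a ha (hw ▸ hb')
  refine ⟨le_antisymm (Ideal.map_le_iff_le_comap.2 fun a ha hu => ha (isUnit_of_map_unit _ a hu)) fun z hz => ?_, ?_⟩
  · rcases eq_or_ne z 0 with rfl | hz0
    · exact zero_mem _
    obtain ⟨k, w, rfl⟩ := hall z hz0
    obtain ⟨k, rfl⟩ := Nat.exists_eq_succ_of_ne_zero (n := k) (fun h0 => hz (by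
      rw [h0, pow_zero, mul_one]; exact w.isUnit.map φ))
    rw [pow_succ, ← mul_assoc]
    exact Ideal.mul_mem_left _ _ (Ideal.mem_map_of_mem _ (hπ.maximalIdeal_eq ▸ Ideal.mem_span_singleton_self π))
  · let j := ResidueField.map φ
    have hj : ∀ c : ResidueField A, j (algebraMap (ResidueField A) (ResidueField Bq) c) = algebraMap (ResidueField A) (ResidueField V) c := fun c => by
      obtain ⟨a, rfl⟩ := residue_surjective c
      rw [ResidueField.algebraMap_residue, ResidueField.algebraMap_residue, ResidueField.map_residue, hφA]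
    let ja : ResidueField Bq →ₐ[ResidueField A] ResidueField V := { j with commutes' := hj }
    haveI : Algebra.IsSeparable (ResidueField A) (ResidueField Bq) := inferInstance
    have hsepq : ∀ x : ResidueField Bq, IsSeparable (ResidueField A) (j x) := fun x =>
      (isSeparable_map_iff ja ja.toRingHom.injective).2 (Algebra.IsSeparable.isSeparable (ResidueField A) x)
    refine ⟨fun c => ?_⟩
    obtain ⟨z, rfl⟩ := residue_surjective c
    by_cases hzu : IsUnit z
    · obtain ⟨k, w, rfl⟩ := hall z hzu.ne_zero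
      obtain rfl : k = 0 := by_contra fun hk => hπ.not_isUnit (isUnit_of_map_unit (algebraMap A V) π
        ((isUnit_pow_iff hk).1 (isUnit_of_mul_isUnit_right hzu)))
      rw [pow_zero, mul_one]
      rw [← ResidueField.map_residue φ]
      exact hsepq (residue Bq (w : Bq))
    · rw [(residue_eq_zero_iff z).2 hzu, ← map_zero (algebraMap (ResidueField A) (ResidueField V))]
      exact isSeparable_algebraMap 0

end EtRamTameLib
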