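import Groth.Agent.EtRamTameLib.Tower
import Groth.Agent.SHDescLib.Restrict

/-! Composition and restriction of tame and unramified extensions. -/

set_option autoImplicit false
universe u

noncomputable section

namespace EtRamTameLib

open IsLocalRing

variable {A K L M : Type u} [CommRing A] [IsDomain A] [IsDiscreteValuationRing A] [Field K] [Algebra A K]
  [IsFractionRing A K] [Field L] [Field M] [Algebra K L] [Algebra K M] [Algebra L M] [IsScalarTower K L M]
  [FiniteDimensional K M]

theorem unramified_comp (h₁ : EtRam.IsUnramifiedExt A ((algebraMap K L).comp (algebraMap A K)))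
    (h₂ : ∀ (V : ValuationSubring L), EtRam.Dominates A ((algebraMap K L).comp (algebraMap A K)) V →
      EtRam.IsUnramifiedExt V ((algebraMap L M).comp V.subtype)) :
    EtRam.IsUnramifiedExt A ((algebraMap K M).comp (algebraMap A K)) := by
  intro W hW
  letI : Algebra A W := (RingHom.codRestrict ((algebraMap K M).comp (algebraMap A K)) W hW.1).toAlgebra
  intro hlW
  have : FiniteDimensional K L := FiniteDimensional.left K L M
  let V := W.comap (algebraMap L M)
  have hV := dominates_comap (L := L) W hW
  letI : Algebra A V := (RingHom.codRestrict ((algebraMap K L).comp (algebraMap A K)) V hV.1).toAlgebra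
  letI : Algebra V W := (RingHom.codRestrict ((algebraMap L M).comp V.subtype) W (dominates_top W).1).toAlgebra
  haveI hlV : IsLocalHom (algebraMap A V) := isLocalHom_of_dominates V hV
  haveI hlVW : IsLocalHom (algebraMap V W) := EtRam.isLocalHom_inclOfComap W (algebraMap L M)
  obtain ⟨hidx, hsep⟩ := @tower A K L M _ _ _ _ _ _ _ _ _ _ _ _ _ W hW hlW hlV hlVW
  obtain ⟨hw₁, hs₁⟩ := h₁ V hV
  obtain ⟨hw₂, hs₂⟩ := h₂ V hV W (dominates_top W)
  have := isDVR (A := A) (K := K) W hW
  have := isDVR (A := A) (K := K) V hV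
  rw [(basic V hV).2] at hw₁
  rw [weaklyUnramified_iff (fun a b h => Subtype.ext ((algebraMap L M).injective (congrArg Subtype.val h)))] at hw₂
  exact ⟨(basic W hW).2.2 (by rw [hidx, hw₁, hw₂]), hsep.1 ⟨hs₁, hs₂⟩⟩

theorem tame_comp (h₁ : EtRam.IsTamelyRamified A ((algebraMap K L).comp (algebraMap A K)))
    (h₂ : ∀ (V : ValuationSubring L), EtRam.Dominates A ((algebraMap K L).comp (algebraMap A K)) V →
      EtRam.IsTamelyRamified V ((algebraMap L M).comp V.subtype)) :
    EtRam.IsTamelyRamified A ((algebraMap K M).comp (algebraMap A K)) := by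
  intro W hW
  letI : Algebra A W := (RingHom.codRestrict ((algebraMap K M).comp (algebraMap A K)) W hW.1).toAlgebra
  intro hlW
  have : FiniteDimensional K L := FiniteDimensional.left K L M
  let V := W.comap (algebraMap L M)
  have hV := dominates_comap (L := L) W hW
  letI : Algebra A V := (RingHom.codRestrict ((algebraMap K L).comp (algebraMap A K)) V hV.1).toAlgebra
  letI : Algebra V W := (RingHom.codRestrict ((algebraMap L M).comp V.subtype) W (dominates_top W).1).toAlgebra
  haveI hlV : IsLocalHom (algebraMap A V) := isLocalHom_of_dominates V hV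
  haveI hlVW : IsLocalHom (algebraMap V W) := EtRam.isLocalHom_inclOfComap W (algebraMap L M)
  obtain ⟨hidx, hsep⟩ := @tower A K L M _ _ _ _ _ _ _ _ _ _ _ _ _ W hW hlW hlV hlVW
  obtain ⟨hs₁, hp₁⟩ := h₁ V hV
  obtain ⟨hs₂, hp₂⟩ := h₂ V hV W (dominates_top W)
  refine ⟨hsep.1 ⟨hs₁, hs₂⟩, fun p hp hchar hdvd => ?_⟩
  rw [hidx] at hdvd
  rcases hp.dvd_mul.1 hdvd with h | h
  · exact hp₁ p hp hchar h
  · exact hp₂ p hp (charP_of_injective_algebraMap (algebraMap (ResidueField A) (ResidueField V)).injective p) h

theorem unramified_sub (h : EtRam.IsUnramifiedExt A ((algebraMap K M).comp (algebraMap A K))) :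
    EtRam.IsUnramifiedExt A ((algebraMap K L).comp (algebraMap A K)) := by
  intro V hV
  obtain ⟨W, rfl⟩ := SHDescLib.exists_extension V (algebraMap L M)
  letI : Algebra A (W.comap (algebraMap L M)) :=
    (RingHom.codRestrict ((algebraMap K L).comp (algebraMap A K)) (W.comap (algebraMap L M)) hV.1).toAlgebra
  intro hlV
  have : FiniteDimensional K L := FiniteDimensional.left K L M
  have hW : EtRam.Dominates A ((algebraMap K M).comp (algebraMap A K)) W := by
    rw [show (algebraMap K M).comp (algebraMap A K) = (algebraMap L M).comp ((algebraMap K L).comp (algebraMap A K)) by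
      rw [IsScalarTower.algebraMap_eq K L M, RingHom.comp_assoc]]
    exact ⟨hV.1, fun a ha => (SHDescLib.valuation_comap_lt_one_iff W _ _).1 (hV.2 a ha)⟩
  letI : Algebra A W := (RingHom.codRestrict ((algebraMap K M).comp (algebraMap A K)) W hW.1).toAlgebra
  letI : Algebra (W.comap (algebraMap L M)) W :=
    (RingHom.codRestrict ((algebraMap L M).comp (W.comap (algebraMap L M)).subtype) W (dominates_top W).1).toAlgebra
  haveI hlW : IsLocalHom (algebraMap A W) := isLocalHom_of_dominates W hW
  haveI hlVW : IsLocalHom (algebraMap (W.comap (algebraMap L M)) W) := EtRam.isLocalHom_inclOfComap W (algebraMap L M)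
  obtain ⟨hidx, hsep⟩ := @tower A K L M _ _ _ _ _ _ _ _ _ _ _ _ _ W hW hlW hlV hlVW
  obtain ⟨hw, hs⟩ := h W hW
  rw [(basic W hW).2, hidx] at hw
  exact ⟨(basic (W.comap (algebraMap L M)) hV).2.2 (Nat.eq_one_of_mul_eq_one_right hw), (hsep.2 hs).1⟩

theorem tame_sub (h : EtRam.IsTamelyRamified A ((algebraMap K M).comp (algebraMap A K))) :
    EtRam.IsTamelyRamified A ((algebraMap K L).comp (algebraMap A K)) := by
  intro V hV
  obtain ⟨W, rfl⟩ := SHDescLib.exists_extension V (algebraMap L M)
  letI : Algebra A (W.comap (algebraMap L M)) :=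
    (RingHom.codRestrict ((algebraMap K L).comp (algebraMap A K)) (W.comap (algebraMap L M)) hV.1).toAlgebra
  intro hlV
  have : FiniteDimensional K L := FiniteDimensional.left K L M
  have hW : EtRam.Dominates A ((algebraMap K M).comp (algebraMap A K)) W := by
    rw [show (algebraMap K M).comp (algebraMap A K) = (algebraMap L M).comp ((algebraMap K L).comp (algebraMap A K)) by
      rw [IsScalarTower.algebraMap_eq K L M, RingHom.comp_assoc]]
    exact ⟨hV.1, fun a ha => (SHDescLib.valuation_comap_lt_one_iff W _ _).1 (hV.2 a ha)⟩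
  letI : Algebra A W := (RingHom.codRestrict ((algebraMap K M).comp (algebraMap A K)) W hW.1).toAlgebra
  letI : Algebra (W.comap (algebraMap L M)) W :=
    (RingHom.codRestrict ((algebraMap L M).comp (W.comap (algebraMap L M)).subtype) W (dominates_top W).1).toAlgebra
  haveI hlW : IsLocalHom (algebraMap A W) := isLocalHom_of_dominates W hW
  haveI hlVW : IsLocalHom (algebraMap (W.comap (algebraMap L M)) W) := EtRam.isLocalHom_inclOfComap W (algebraMap L M)
  obtain ⟨hidx, hsep⟩ := @tower A K L M _ _ _ _ _ _ _ _ _ _ _ _ _ W hW hlW hlV hlVW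
  obtain ⟨hs, hp⟩ := h W hW
  exact ⟨(hsep.2 hs).1, fun p hpp hchar hdvd => hp p hpp hchar (hidx ▸ dvd_mul_of_dvd_left hdvd _)⟩

end EtRamTameLib
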