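import Groth.Agent.EtRamTameLib.Root
import Groth.Agent.EtRamTameLib.Comp
import Groth.Agent.SolSepLib.BaseChange
import Mathlib.RingTheory.AdjoinRoot
import Mathlib.FieldTheory.IsAlgClosed.AlgebraicClosure

/-! Tame extensions become unramified over a root of the uniformiser. -/

set_option autoImplicit false
universe u

noncomputable section

namespace EtRamTameLib

open IsLocalRing Polynomial

theorem adjoin_gen_eq_top {k E : Type u} [Field k] [Field E] [Algebra k E] (x : E) :
    IntermediateField.adjoin k
      ({⟨x, IntermediateField.mem_adjoin_simple_self k x⟩} : Set (IntermediateField.adjoin k ({x} : Set E))) = ⊤ := by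
  refine IntermediateField.map_injective (IntermediateField.adjoin k ({x} : Set E)).val ?_
  rw [IntermediateField.adjoin_map, Set.image_singleton, ← AlgHom.fieldRange_eq_map, IntermediateField.fieldRange_val]
  rfl

theorem comap_eq_of_dominates {E M : Type u} [Field E] [Field M] (f : E →+* M) (V : ValuationSubring E)
    (W : ValuationSubring M) (h : EtRam.Dominates V (f.comp V.subtype) W) : W.comap f = V := by
  refine SetLike.ext fun z => ⟨fun hz => ?_, fun hz => h.1 ⟨z, hz⟩⟩
  by_contra hn
  have hzi : z⁻¹ ∈ V := (V.mem_or_inv_mem z).resolve_left hn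
  have hnu : ¬ IsUnit (⟨z⁻¹, hzi⟩ : V) := fun hu => by
    obtain ⟨b, hb⟩ := hu.exists_right_inv
    have h1 : z⁻¹ * (b : E) = 1 := congrArg Subtype.val hb
    have hz0 : z ≠ 0 := fun h0 => hn (h0 ▸ V.zero_mem)
    exact hn ((show (b : E) = z by rw [← eq_inv_of_mul_eq_one_right h1 |>.symm]; exact (inv_inv z)) ▸ b.2)
  have h1 : W.valuation (f z⁻¹) < 1 := h.2 ⟨z⁻¹, hzi⟩ hnu
  rw [map_inv₀, map_inv₀] at h1
  refine not_le.2 h1 ((one_le_inv₀ ?_).2 ((W.valuation_le_one_iff _).2 hz))
  exact zero_lt_iff.2 ((_root_.map_ne_zero _).2 ((_root_.map_ne_zero _).2 fun h0 => hn (h0 ▸ V.zero_mem)))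

variable {A K : Type u} [CommRing A] [IsDomain A] [IsDiscreteValuationRing A] [Field K] [Algebra A K] [IsFractionRing A K]

theorem cast_ne_zero_field {e : ℕ} (h : (e : ResidueField A) ≠ 0) : (e : K) ≠ 0 := fun h0 => h (by
  rw [← map_natCast (residue A), (IsFractionRing.injective A K) (show algebraMap A K (e : A) = algebraMap A K 0 by
    rw [map_natCast, map_zero, h0]), map_zero])

/-- A tame extension enlarged by a root of order a multiple of all indices. -/
theorem core {L M : Type u} [Field L] [Field M] [Algebra K L] [Algebra K M] [Algebra L M] [IsScalarTower K L M]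
    [FiniteDimensional K M] (hL : EtRam.IsTamelyRamified A ((algebraMap K L).comp (algebraMap A K)))
    {π : A} (hπ : Irreducible π) {e : ℕ} (he : 0 < e)
    (hdiv : ∀ n : ℕ, n ≤ Module.finrank K L → (n : ResidueField A) ≠ 0 → n ∣ e)
    {x : M} (hx : x ^ e = algebraMap K M (algebraMap A K π)) (hgen : IntermediateField.adjoin L ({x} : Set M) = ⊤)
    (W : ValuationSubring M) (hW : EtRam.Dominates A ((algebraMap K M).comp (algebraMap A K)) W) :
    letI : Algebra A W := (RingHom.codRestrict ((algebraMap K M).comp (algebraMap A K)) W hW.1).toAlgebra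
    ∀ [IsLocalHom (algebraMap A W)],
    Ideal.ramificationIdx' (maximalIdeal A) (maximalIdeal W) = e ∧
      Algebra.IsSeparable (ResidueField A) (ResidueField W) := by
  letI : Algebra A W := (RingHom.codRestrict ((algebraMap K M).comp (algebraMap A K)) W hW.1).toAlgebra
  intro hlW
  have : FiniteDimensional K L := FiniteDimensional.left K L M
  have : FiniteDimensional L M := FiniteDimensional.right K L M
  let K₂ := IntermediateField.adjoin K ({x} : Set M)
  obtain ⟨hfd, -, hrad⟩ := radical (A := A) (adjoin_gen_eq_top (k := K) x) hπ he (Subtype.ext hx)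
  let V := W.comap (algebraMap L M)
  let V₂ := W.comap (algebraMap K₂ M)
  have hV := dominates_comap (L := L) W hW
  have hV₂ := dominates_comap (L := K₂) W hW
  letI : Algebra A V := (RingHom.codRestrict ((algebraMap K L).comp (algebraMap A K)) V hV.1).toAlgebra
  letI : Algebra A V₂ := (RingHom.codRestrict ((algebraMap K K₂).comp (algebraMap A K)) V₂ hV₂.1).toAlgebra
  letI : Algebra V₂ W := (RingHom.codRestrict ((algebraMap K₂ M).comp V₂.subtype) W (dominates_top W).1).toAlgebra
  haveI hlV : IsLocalHom (algebraMap A V) := isLocalHom_of_dominates V hV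
  haveI hlV₂ : IsLocalHom (algebraMap A V₂) := isLocalHom_of_dominates V₂ hV₂
  haveI hlVW : IsLocalHom (algebraMap V₂ W) := EtRam.isLocalHom_inclOfComap W (algebraMap K₂ M)
  have hDV := isDVR (A := A) (K := K) V hV
  obtain ⟨hidx₂, hsep₂⟩ := hrad V₂ hV₂
  obtain ⟨hsepV, hp⟩ := hL V hV
  obtain ⟨ϖ, hϖ⟩ := IsDiscreteValuationRing.exists_irreducible V
  obtain ⟨eV, v, heV, hv, hidxV⟩ := exists_idx (A := A) (V := V)
    (fun a b h => IsFractionRing.injective A K ((algebraMap K L).injective (congrArg Subtype.val h))) hπ hϖ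
  have hchar : (eV : ResidueField A) ≠ 0 := (prime_to_iff heV).1 (hidxV ▸ hp)
  have hdvd : eV ∣ Ideal.ramificationIdx' (maximalIdeal A) (maximalIdeal V₂) := by
    rw [hidx₂]
    exact hdiv eV (hidxV ▸ idx_le_finrank V hV) hchar
  have := SHDescLib.geomRed_of_separable (k := ResidueField A) (F := ResidueField V)
  obtain ⟨hw, hgr⟩ := SolSepLib.abhyankar (A := A) (B := V) (K := K) (L := L) (K₁ := K₂) (M := M)
    (fun a b h => IsFractionRing.injective A K ((algebraMap K L).injective (congrArg Subtype.val h))) (fun a => rfl)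
    hπ hϖ heV hv hchar (top_unique fun z _ => by
      have hz : z ∈ Algebra.adjoin L ({x} : Set M) := by
        rw [← IntermediateField.adjoin_simple_toSubalgebra_of_isAlgebraic (Algebra.IsAlgebraic.isAlgebraic x), hgen]
        trivial
      refine Algebra.adjoin_le (Set.singleton_subset_iff.2 ?_) hz
      exact Algebra.subset_adjoin ⟨(⟨x, IntermediateField.mem_adjoin_simple_self K x⟩ : K₂), rfl⟩)
    W (dominates_top W) hV₂.1 hdvd
  have hDW := isDVR (A := A) (K := K) W hW
  have hDV₂ := isDVR (A := A) (K := K) V₂ hV₂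
  have hsep₃ : Algebra.IsSeparable (ResidueField V₂) (ResidueField W) := by
    have : Algebra.IsGeometricallyReduced (ResidueField V₂) (ResidueField W) := by
      convert hgr using 1
      exact Algebra.algebra_ext _ _ fun c => by
        obtain ⟨c, rfl⟩ := residue_surjective c
        rfl
    have : FiniteDimensional K₂ M := FiniteDimensional.right K K₂ M
    have : Module.Finite (ResidueField V₂) (ResidueField W) :=
      SolSepLib.finite_residue (A := V₂) (K := K₂) W fun _ => rfl
    exact isSeparable_of_geomRed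
  obtain ⟨hidx, hsep⟩ := @tower A K K₂ M _ _ _ _ _ _ _ _ _ _ _ _ _ W hW hlW hlV₂ hlVW
  have hinjW : Function.Injective (algebraMap V₂ W) := fun a b h => by
    have h1 : algebraMap K₂ M (a : K₂) = algebraMap K₂ M (b : K₂) := congrArg (fun w : W => (w : M)) h
    exact Subtype.ext ((algebraMap K₂ M).injective h1)
  have hw' : Ideal.ramificationIdx' (maximalIdeal V₂) (maximalIdeal W) = 1 :=
    (weaklyUnramified_iff hinjW).1 hw
  exact ⟨by rw [hidx, hw', mul_one]; exact hidx₂, hsep.1 ⟨hsep₂, hsep₃⟩⟩

theorem exists_multiple (d : ℕ) :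
    ∃ e₀ : ℕ, 0 < e₀ ∧ (e₀ : ResidueField A) ≠ 0 ∧ ∀ n : ℕ, n ≤ d → (n : ResidueField A) ≠ 0 → n ∣ e₀ := by
  classical
  refine ⟨∏ n ∈ (Finset.range (d + 1)).filter (fun n : ℕ => (n : ResidueField A) ≠ 0), n,
    Finset.prod_pos fun n hn => Nat.pos_of_ne_zero fun h => (Finset.mem_filter.1 hn).2 (by rw [h, Nat.cast_zero]), ?_,
    fun n hn h0 => Finset.dvd_prod_of_mem _ (Finset.mem_filter.2 ⟨Finset.mem_range.2 (by omega), h0⟩)⟩
  rw [Nat.cast_prod]
  exact Finset.prod_ne_zero_iff.2 fun n hn => (Finset.mem_filter.1 hn).2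

/-- Enlarging by a root of the uniformiser. -/
theorem exists_root_ext {L : Type u} [Field L] [Algebra K L] [FiniteDimensional K L] [Algebra.IsSeparable K L] (c : K)
    (hc : c ≠ 0) {e : ℕ} (he : 0 < e) (heK : (e : K) ≠ 0) :
    ∃ (M : Type u) (_ : Field M) (_ : Algebra K M) (_ : Algebra L M) (_ : IsScalarTower K L M) (x : M),
      FiniteDimensional K M ∧ Algebra.IsSeparable K M ∧ x ^ e = algebraMap K M c ∧
        IntermediateField.adjoin L ({x} : Set M) = ⊤ := by
  let Ω := AlgebraicClosure L
  obtain ⟨ω, hω⟩ := IsAlgClosed.exists_pow_nat_eq (algebraMap L Ω (algebraMap K L c)) he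
  have hroot : aeval ω (X ^ e - C (algebraMap K L c)) = 0 := by
    simp only [map_sub, map_pow, aeval_X, aeval_C]; exact sub_eq_zero.2 hω
  have hint : IsIntegral L ω := ⟨_, monic_X_pow_sub_C _ he.ne', by rw [← aeval_def]; exact hroot⟩
  have hsep : IsSeparable L ω := by
    refine (separable_X_pow_sub_C (algebraMap K L c) ?_ ((_root_.map_ne_zero _).2 hc)).of_dvd (minpoly.dvd L ω hroot)
    rw [← map_natCast (algebraMap K L)]; exact (_root_.map_ne_zero _).2 heK
  let M := IntermediateField.adjoin L ({ω} : Set Ω)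
  have : FiniteDimensional L M := IntermediateField.adjoin.finiteDimensional hint
  have : Algebra.IsSeparable L M := (IntermediateField.isSeparable_adjoin_simple_iff_isSeparable L Ω).2 hsep
  refine ⟨M, inferInstance, inferInstance, inferInstance, inferInstance, ⟨ω, IntermediateField.mem_adjoin_simple_self L ω⟩,
    FiniteDimensional.trans K L M, Algebra.IsSeparable.trans K L M, Subtype.ext ?_, adjoin_gen_eq_top ω⟩
  show ω ^ e = ((algebraMap K M c : M) : Ω)
  rw [hω, IsScalarTower.algebraMap_apply K L M]
  rfl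

/-- Radicals of non-zero elements are tame. -/
theorem tame_radical {L : Type u} [Field L] [Algebra K L] [FiniteDimensional K L] [Algebra.IsSeparable K L] {b : A} (hb : b ≠ 0)
    {e : ℕ} (he : 0 < e) (hchar : (e : ResidueField A) ≠ 0) {x : L} (hx : x ^ e = algebraMap K L (algebraMap A K b))
    (hgen : IntermediateField.adjoin K ({x} : Set L) = ⊤) :
    EtRam.IsTamelyRamified A ((algebraMap K L).comp (algebraMap A K)) := by
  obtain ⟨π, hπ⟩ := IsDiscreteValuationRing.exists_irreducible A
  obtain ⟨s, w, hw⟩ := IsDiscreteValuationRing.eq_unit_mul_pow_irreducible hb hπ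
  have heK : (e : K) ≠ 0 := cast_ne_zero_field hchar
  have hπ0 : algebraMap A K π ≠ 0 := (map_ne_zero_iff _ (IsFractionRing.injective A K)).2 hπ.ne_zero
  obtain ⟨M, _, _, _, _, σ, hfd, hsM, hσ, hgenM⟩ := exists_root_ext (L := L) (algebraMap A K π) hπ0 he heK
  let E := IntermediateField.adjoin K ({σ} : Set M)
  obtain ⟨hfdE, -, hrad⟩ := radical (A := A) (adjoin_gen_eq_top (k := K) σ) hπ he (Subtype.ext hσ)
  refine tame_sub (M := M) (tame_comp (L := E) ?_ ?_)
  · intro V hV
    letI : Algebra A V := (RingHom.codRestrict ((algebraMap K E).comp (algebraMap A K)) V hV.1).toAlgebra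
    intro _
    obtain ⟨hidx, hsep⟩ := hrad V hV
    exact ⟨hsep, hidx.symm ▸ (prime_to_iff he).2 hchar⟩
  intro V hV
  have := isDVR (A := A) (K := K) V hV
  letI : Algebra A V := (RingHom.codRestrict ((algebraMap K E).comp (algebraMap A K)) V hV.1).toAlgebra
  haveI hlV : IsLocalHom (algebraMap A V) := isLocalHom_of_dominates V hV
  have : FiniteDimensional E M := FiniteDimensional.right K E M
  let u : V := algebraMap A V (w : A)
  have hu : IsUnit u := w.isUnit.map _
  have hchar' : (e : ResidueField V) ≠ 0 := by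
    rw [← map_natCast (algebraMap (ResidueField A) (ResidueField V))]; exact (_root_.map_ne_zero _).2 hchar
  have hσ0 : σ ≠ 0 := fun h0 => by
    rw [h0, zero_pow he.ne', eq_comm, map_eq_zero] at hσ; exact hπ0 hσ
  let r : M := algebraMap L M x / σ ^ s
  have hr : (X ^ e - C u : V[X]).eval₂ ((algebraMap E M).comp V.subtype) r = 0 := by
    rw [eval₂_sub, eval₂_pow, eval₂_X, eval₂_C, sub_eq_zero]
    show (algebraMap L M x / σ ^ s) ^ e = algebraMap K M (algebraMap A K (w : A))
    rw [div_pow, ← map_pow, hx, ← IsScalarTower.algebraMap_apply, hw, map_mul, map_pow, map_mul, map_pow, ← pow_mul σ,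
      mul_comm s e, pow_mul, hσ, mul_div_assoc,
      div_self (pow_ne_zero _ ((_root_.map_ne_zero _).2 hπ0)), mul_one]
  have hgr : IntermediateField.adjoin E ({r} : Set M) = ⊤ := by
    refine IntermediateField.restrictScalars_injective K (top_unique fun z _ => ?_)
    let T := (IntermediateField.adjoin E ({r} : Set M)).restrictScalars K
    have hσT : σ ∈ T := IntermediateField.algebraMap_mem (IntermediateField.adjoin E ({r} : Set M))
      (⟨σ, IntermediateField.mem_adjoin_simple_self K σ⟩ : E)
    have hxT : algebraMap L M x ∈ T := by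
      rw [show algebraMap L M x = r * σ ^ s from (div_mul_cancel₀ _ (pow_ne_zero _ hσ0)).symm]
      exact mul_mem (IntermediateField.mem_adjoin_simple_self E r) (pow_mem hσT _)
    have hLT : ∀ l : L, algebraMap L M l ∈ T := fun l => by
      have hl : l ∈ T.comap (IsScalarTower.toAlgHom K L M) :=
        (IntermediateField.adjoin_simple_le_iff.2 hxT : IntermediateField.adjoin K ({x} : Set L) ≤ _)
          (hgen ▸ trivial)
      exact hl
    have hz : z ∈ IntermediateField.adjoin L ({σ} : Set M) := hgenM ▸ trivial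
    induction hz using IntermediateField.adjoin_induction with
    | mem y hy => rw [Set.mem_singleton_iff.1 hy]; exact hσT
    | algebraMap l => exact hLT l
    | add a b _ _ ha hb => exact add_mem (ha trivial) (hb trivial)
    | inv a _ ha => exact inv_mem (ha trivial)
    | mul a b _ _ ha hb => exact mul_mem (ha trivial) (hb trivial)
  have hun := unramified_of_root (A := V) (K := E) (L := M) (X ^ e - C u) (monic_X_pow_sub_C _ he.ne')
    (by rw [Polynomial.map_sub, Polynomial.map_pow, map_X, map_C]
        exact separable_X_pow_sub_C _ hchar' ((residue_ne_zero_iff_isUnit u).2 hu))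
    (by rw [Polynomial.map_sub, Polynomial.map_pow, map_X, map_C]
        exact separable_X_pow_sub_C _ (by rw [← map_natCast (algebraMap K E)]; exact (_root_.map_ne_zero _).2 heK)
          ((map_ne_zero_iff _ (IsFractionRing.injective V E)).2 hu.ne_zero))
    hgr hr
  intro W hW
  letI : Algebra V W := (RingHom.codRestrict ((algebraMap E M).comp V.subtype) W hW.1).toAlgebra
  intro hl
  obtain ⟨hwu, hs⟩ := @hun W hW hl
  refine ⟨hs, fun p hp _ hdvd => hp.one_lt.ne' (Nat.dvd_one.1 ?_)⟩
  have := isDVR (A := V) (K := E) W hW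
  have hinjW : Function.Injective (algebraMap V W) := fun a b h => by
    have h1 : algebraMap E M (a : E) = algebraMap E M (b : E) := congrArg (fun w : W => (w : M)) h
    exact Subtype.ext ((algebraMap E M).injective h1)
  rwa [(weaklyUnramified_iff (A := V) (V := W) hinjW).1 hwu] at hdvd

end EtRamTameLib
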