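import Groth.Agent.EtRamTameLib.Main

/-! Being unramified over `A[z]/(z ^ e - π)`. -/

set_option autoImplicit false
universe u

noncomputable section

namespace EtRamTameLib

open IsLocalRing Polynomial

variable {A K M : Type u} [CommRing A] [IsDomain A] [IsDiscreteValuationRing A] [Field K] [Algebra A K] [IsFractionRing A K]
  [Field M] [Algebra K M] [FiniteDimensional K M] {π : A} {e : ℕ}
  [Algebra (AdjoinRoot (X ^ e - C π : A[X])) M]
  (hof : (algebraMap (AdjoinRoot (X ^ e - C π : A[X])) M).comp (AdjoinRoot.of (X ^ e - C π)) =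
    (algebraMap K M).comp (algebraMap A K))

theorem root_pow : (AdjoinRoot.root (X ^ e - C π : A[X])) ^ e = AdjoinRoot.of _ π := by
  have h := AdjoinRoot.eval₂_root (X ^ e - C π : A[X])
  rw [eval₂_sub, eval₂_pow, eval₂_X, eval₂_C, sub_eq_zero] at h
  exact h

omit [FiniteDimensional K M] [Algebra (AdjoinRoot (X ^ e - C π : A[X])) M] in
theorem isLocalRing_adj {A : Type u} [CommRing A] [IsDomain A] [IsDiscreteValuationRing A] {π : A} (hπ : Irreducible π)
    {e : ℕ} (he : 0 < e) : IsLocalRing (AdjoinRoot (X ^ e - C π : A[X])) := by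
  let A' := AdjoinRoot (X ^ e - C π : A[X])
  let ψ : A' →+* ResidueField A := AdjoinRoot.lift (residue A) 0 (by
    rw [eval₂_sub, eval₂_pow, eval₂_X, eval₂_C, zero_pow he.ne', zero_sub, neg_eq_zero, residue_eq_zero_iff]
    exact hπ.not_isUnit)
  have hψ : Function.Surjective ψ := fun c => by
    obtain ⟨a, rfl⟩ := residue_surjective c
    exact ⟨AdjoinRoot.of _ a, AdjoinRoot.lift_of _⟩
  refine IsLocalRing.of_unique_max_ideal ⟨RingHom.ker ψ, RingHom.ker_isMaximal_of_surjective ψ hψ, fun P hP => ?_⟩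
  refine ((RingHom.ker_isMaximal_of_surjective ψ hψ).eq_of_le hP.ne_top ?_).symm
  have : Module.Finite A A' := (monic_X_pow_sub_C π he.ne').finite_adjoinRoot
  have hcomap : P.comap (algebraMap A A') = maximalIdeal A :=
    IsLocalRing.eq_maximalIdeal (Ideal.isMaximal_comap_of_isIntegral_of_isMaximal P)
  have hroot : AdjoinRoot.root (X ^ e - C π) ∈ P := by
    refine hP.isPrime.mem_of_pow_mem e ?_
    rw [root_pow]
    exact (hcomap.symm ▸ hπ.not_isUnit : π ∈ P.comap (algebraMap A A'))
  intro s hs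
  obtain ⟨g, rfl⟩ := AdjoinRoot.mk_surjective s
  obtain ⟨g', hg'⟩ : X ∣ g - C (g.coeff 0) := by rw [X_dvd_iff, coeff_sub, coeff_C_zero, sub_self]
  have hs' : AdjoinRoot.mk (X ^ e - C π) g = AdjoinRoot.of _ (g.coeff 0) + AdjoinRoot.root _ * AdjoinRoot.mk _ g' := by
    have h1 := congrArg (AdjoinRoot.mk (X ^ e - C π)) hg'
    rw [map_sub, map_mul, AdjoinRoot.mk_C, AdjoinRoot.mk_X] at h1
    rw [← h1]; ring
  rw [RingHom.mem_ker, hs', map_add, map_mul, AdjoinRoot.lift_of, AdjoinRoot.lift_root, zero_mul, add_zero,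
    residue_eq_zero_iff] at hs
  rw [hs']
  exact add_mem (hcomap.symm ▸ hs : g.coeff 0 ∈ P.comap (algebraMap A A')) (Ideal.mul_mem_right _ _ hroot)

section

variable (hπ : Irreducible π) (he : 0 < e) [IsLocalRing (AdjoinRoot (X ^ e - C π : A[X]))]

include hπ he

omit [IsFractionRing A K] [FiniteDimensional K M] [Algebra (AdjoinRoot (X ^ e - C π : A[X])) M] in
theorem nonunits_adj :
    ¬ IsUnit (AdjoinRoot.root (X ^ e - C π : A[X])) ∧
      (∀ a : A, IsUnit (AdjoinRoot.of (X ^ e - C π : A[X]) a) → IsUnit a) := by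
  let ψ : AdjoinRoot (X ^ e - C π : A[X]) →+* ResidueField A := AdjoinRoot.lift (residue A) 0 (by
    rw [eval₂_sub, eval₂_pow, eval₂_X, eval₂_C, zero_pow he.ne', zero_sub, neg_eq_zero, residue_eq_zero_iff]
    exact hπ.not_isUnit)
  refine ⟨fun h => ?_, fun a h => ?_⟩
  · have := h.map ψ
    rw [AdjoinRoot.lift_root] at this
    exact not_isUnit_zero this
  · have := h.map ψ
    rw [AdjoinRoot.lift_of] at this
    exact (residue_ne_zero_iff_isUnit a).1 this.ne_zero

omit [IsFractionRing A K] [FiniteDimensional K M] [Algebra (AdjoinRoot (X ^ e - C π : A[X])) M] in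
theorem maximal_adj :
    maximalIdeal (AdjoinRoot (X ^ e - C π : A[X])) = Ideal.span {AdjoinRoot.root (X ^ e - C π : A[X])} := by
  obtain ⟨hroot, hof'⟩ := nonunits_adj hπ he
  refine le_antisymm (fun s hs => ?_) ((Ideal.span_singleton_le_iff_mem _).2 hroot)
  obtain ⟨g, rfl⟩ := AdjoinRoot.mk_surjective s
  obtain ⟨g', hg'⟩ : X ∣ g - C (g.coeff 0) := by rw [X_dvd_iff, coeff_sub, coeff_C_zero, sub_self]
  have hs' : AdjoinRoot.mk (X ^ e - C π) g = AdjoinRoot.of _ (g.coeff 0) + AdjoinRoot.root _ * AdjoinRoot.mk _ g' := by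
    have h1 := congrArg (AdjoinRoot.mk (X ^ e - C π)) hg'
    rw [map_sub, map_mul, AdjoinRoot.mk_C, AdjoinRoot.mk_X] at h1
    rw [← h1]; ring
  have hr : AdjoinRoot.root _ * AdjoinRoot.mk _ g' ∈ maximalIdeal (AdjoinRoot (X ^ e - C π : A[X])) :=
    Ideal.mul_mem_right _ _ hroot
  have ha : AdjoinRoot.of _ (g.coeff 0) ∈ maximalIdeal (AdjoinRoot (X ^ e - C π : A[X])) := by
    rw [show AdjoinRoot.of _ (g.coeff 0) = AdjoinRoot.mk (X ^ e - C π) g - AdjoinRoot.root _ * AdjoinRoot.mk _ g' by
      rw [hs', add_sub_cancel_right]]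
    exact sub_mem hs hr
  have ha' : g.coeff 0 ∈ maximalIdeal A := fun hu => ha (hu.map _)
  rw [hπ.maximalIdeal_eq, Ideal.mem_span_singleton] at ha'
  obtain ⟨a', ha'⟩ := ha'
  rw [hs', ha', map_mul, ← root_pow]
  obtain ⟨d, rfl⟩ : ∃ d, e = d + 1 := ⟨e - 1, by omega⟩
  exact Ideal.add_mem _ (Ideal.mul_mem_right _ _ (Ideal.pow_mem_of_mem _ (Ideal.mem_span_singleton_self _) _ d.succ_pos))
    (Ideal.mul_mem_right _ _ (Ideal.mem_span_singleton_self _))

include hof

omit [IsFractionRing A K] [FiniteDimensional K M] in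
theorem dominates_iff_adj (W : ValuationSubring M) :
    EtRam.Dominates (AdjoinRoot (X ^ e - C π : A[X])) (algebraMap (AdjoinRoot (X ^ e - C π : A[X])) M) W ↔
      EtRam.Dominates A ((algebraMap K M).comp (algebraMap A K)) W := by
  rw [← hof]
  refine ⟨fun h => ⟨fun a => h.1 _, fun a ha => h.2 _ fun hu => ha ((nonunits_adj hπ he).2 a hu)⟩, fun h => ?_⟩
  let φ := algebraMap (AdjoinRoot (X ^ e - C π : A[X])) M
  have hx : W.valuation (φ (AdjoinRoot.root _)) < 1 := by
    have h1 : W.valuation (φ (AdjoinRoot.root _) ^ e) < 1 := by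
      rw [← map_pow φ, root_pow]; exact h.2 π hπ.not_isUnit
    rw [map_pow] at h1
    by_contra hge
    exact not_le.2 h1 (one_le_pow₀ (not_lt.1 hge))
  have hmem : ∀ s, φ s ∈ W := fun s => by
    obtain ⟨g, rfl⟩ := AdjoinRoot.mk_surjective s
    induction g using Polynomial.induction_on' with
    | add p q hp hq => rw [map_add, map_add]; exact add_mem hp hq
    | monomial n a =>
      rw [← C_mul_X_pow_eq_monomial, map_mul, map_pow, AdjoinRoot.mk_C, AdjoinRoot.mk_X, map_mul, map_pow]
      exact mul_mem (h.1 a) (pow_mem ((W.valuation_le_one_iff _).1 hx.le) _)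
  refine ⟨hmem, fun s hs => ?_⟩
  rw [maximal_adj hπ he, Ideal.mem_span_singleton] at hs
  obtain ⟨t, rfl⟩ := hs
  rw [map_mul, map_mul]
  exact mul_lt_one_of_nonneg_of_lt_one_left zero_le hx ((W.valuation_le_one_iff _).2 (hmem t))

/-- Being unramified over `A[z]/(z ^ e - π)` means index `e` and separable residues. -/
theorem unramified_adj_iff :
    EtRam.IsUnramifiedExt (AdjoinRoot (X ^ e - C π : A[X])) (algebraMap (AdjoinRoot (X ^ e - C π : A[X])) M) ↔
      ∀ (W : ValuationSubring M) (hW : EtRam.Dominates A ((algebraMap K M).comp (algebraMap A K)) W),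
        letI : Algebra A W := (RingHom.codRestrict ((algebraMap K M).comp (algebraMap A K)) W hW.1).toAlgebra
        ∀ [IsLocalHom (algebraMap A W)],
        Ideal.ramificationIdx' (maximalIdeal A) (maximalIdeal W) = e ∧
          Algebra.IsSeparable (ResidueField A) (ResidueField W) := by
  let A' := AdjoinRoot (X ^ e - C π : A[X])
  let φ := algebraMap A' M
  have hφ : ∀ a, φ (AdjoinRoot.of _ a) = algebraMap K M (algebraMap A K a) := fun a => DFunLike.congr_fun hof a
  have hπ0 : algebraMap K M (algebraMap A K π) ≠ 0 :=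
    (_root_.map_ne_zero _).2 ((map_ne_zero_iff _ (IsFractionRing.injective A K)).2 hπ.ne_zero)
  have hx0 : φ (AdjoinRoot.root _) ≠ 0 := fun h0 => hπ0 (by
    rw [← hφ, ← root_pow, map_pow, h0, zero_pow he.ne'])
  haveI hlA : IsLocalHom (algebraMap A A') := ⟨fun a ha => (nonunits_adj hπ he).2 a ha⟩
  have key : ∀ (W : ValuationSubring M) (hW : EtRam.Dominates A ((algebraMap K M).comp (algebraMap A K)) W)
      (hW' : EtRam.Dominates A' φ W),
      letI : Algebra A W := (RingHom.codRestrict ((algebraMap K M).comp (algebraMap A K)) W hW.1).toAlgebra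
      letI : Algebra A' W := (RingHom.codRestrict φ W hW'.1).toAlgebra
      ∀ [IsLocalHom (algebraMap A W)] [IsLocalHom (algebraMap A' W)],
      (EtRam.IsWeaklyUnramified A' W ↔ Ideal.ramificationIdx' (maximalIdeal A) (maximalIdeal W) = e) ∧
        (Algebra.IsSeparable (ResidueField A') (ResidueField W) ↔ Algebra.IsSeparable (ResidueField A) (ResidueField W)) := by
    intro W hW hW'
    letI : Algebra A W := (RingHom.codRestrict ((algebraMap K M).comp (algebraMap A K)) W hW.1).toAlgebra
    letI : Algebra A' W := (RingHom.codRestrict φ W hW'.1).toAlgebra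
    intro _ _
    have := isDVR (A := A) (K := K) W hW
    let ξ : W := algebraMap A' W (AdjoinRoot.root _)
    have hξ0 : ξ ≠ 0 := fun h0 => hx0 (congrArg Subtype.val h0)
    have hξe : algebraMap A W π = ξ ^ e := Subtype.ext (by
      show algebraMap K M (algebraMap A K π) = φ (AdjoinRoot.root _) ^ e
      rw [← map_pow, root_pow, hφ])
    have hmap : (maximalIdeal A').map (algebraMap A' W) = Ideal.span {ξ} := by
      rw [maximal_adj hπ he, Ideal.map_span, Set.image_singleton]
    refine ⟨⟨fun h => ?_, fun h => ?_⟩, ?_⟩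
    · unfold EtRam.IsWeaklyUnramified at h
      exact SolSepLib.ramIdx_eq hπ (h.symm.trans hmap) hξ0 isUnit_one (by rw [one_mul]; exact hξe)
    · unfold EtRam.IsWeaklyUnramified
      obtain ⟨ϖ, hϖ⟩ := IsDiscreteValuationRing.exists_irreducible W
      obtain ⟨k, w, hw⟩ := IsDiscreteValuationRing.eq_unit_mul_pow_irreducible hξ0 hϖ
      have h1 : algebraMap A W π = (w : W) ^ e * ϖ ^ (k * e) := by rw [hξe, hw, mul_pow, ← pow_mul]
      have h2 := SolSepLib.ramIdx_eq hπ hϖ.maximalIdeal_eq hϖ.ne_zero (w.isUnit.pow e) h1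
      rw [h] at h2
      have hk : k = 1 := by
        have h3 : e * 1 = e * k := by rw [mul_one, mul_comm e k]; exact h2
        exact (Nat.eq_of_mul_eq_mul_left he h3).symm
      rw [hmap, hw, hk, pow_one, Ideal.span_singleton_mul_left_unit w.isUnit, hϖ.maximalIdeal_eq]
    have hT : IsScalarTower A A' W := IsScalarTower.of_algebraMap_eq fun a => Subtype.ext (hφ a).symm
    have : IsScalarTower (ResidueField A) (ResidueField A') (ResidueField W) :=
      IsScalarTower.of_algebraMap_eq fun c => by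
        obtain ⟨a, rfl⟩ := residue_surjective c
        show residue W (algebraMap A W a) = residue W (algebraMap A' W (algebraMap A A' a))
        rw [← IsScalarTower.algebraMap_apply]
    have hsepA : Algebra.IsSeparable (ResidueField A) (ResidueField A') := by
      refine ⟨fun c => ?_⟩
      obtain ⟨s, rfl⟩ := residue_surjective c
      obtain ⟨g, rfl⟩ := AdjoinRoot.mk_surjective s
      obtain ⟨g', hg'⟩ : X ∣ g - C (g.coeff 0) := by rw [X_dvd_iff, coeff_sub, coeff_C_zero, sub_self]
      have h1 : residue A' (AdjoinRoot.mk _ g) = algebraMap (ResidueField A) (ResidueField A') (residue A (g.coeff 0)) := by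
        show _ = residue A' (AdjoinRoot.of _ (g.coeff 0))
        rw [← sub_eq_zero, ← map_sub, residue_eq_zero_iff, maximal_adj hπ he, Ideal.mem_span_singleton]
        refine ⟨AdjoinRoot.mk _ g', ?_⟩
        have h2 := congrArg (AdjoinRoot.mk (X ^ e - C π)) hg'
        rwa [map_sub, map_mul, AdjoinRoot.mk_C, AdjoinRoot.mk_X] at h2
      rw [h1]
      exact isSeparable_algebraMap (residue A (g.coeff 0))
    exact ⟨fun h => Algebra.IsSeparable.trans (ResidueField A) (ResidueField A') (ResidueField W),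
      fun h => Algebra.isSeparable_tower_top_of_isSeparable (ResidueField A) (ResidueField A') (ResidueField W)⟩
  constructor
  · intro h W hW
    letI : Algebra A W := (RingHom.codRestrict ((algebraMap K M).comp (algebraMap A K)) W hW.1).toAlgebra
    intro hl
    have hW' := (dominates_iff_adj hof hπ he W).2 hW
    letI : Algebra A' W := (RingHom.codRestrict φ W hW'.1).toAlgebra
    haveI hl' : IsLocalHom (algebraMap A' W) := ⟨fun a ha => by
      by_contra hn
      exact ((W.valuation_lt_one_iff (algebraMap A' W a)).2 (hW'.2 a hn)) ha⟩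
    obtain ⟨hw, hs⟩ := @h W hW' hl'
    obtain ⟨k1, k2⟩ := @key W hW hW' hl hl'
    exact ⟨k1.1 hw, k2.1 hs⟩
  · intro h W hW'
    letI : Algebra A' W := (RingHom.codRestrict φ W hW'.1).toAlgebra
    intro hl'
    have hW := (dominates_iff_adj hof hπ he W).1 hW'
    letI : Algebra A W := (RingHom.codRestrict ((algebraMap K M).comp (algebraMap A K)) W hW.1).toAlgebra
    haveI hl : IsLocalHom (algebraMap A W) := isLocalHom_of_dominates W hW
    obtain ⟨h1, h2⟩ := @h W hW hl
    obtain ⟨k1, k2⟩ := @key W hW hW' hl hl'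
    exact ⟨k1.2 h1, k2.2 h2⟩

end

end EtRamTameLib
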