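import Groth.Agent.EtRamTameLib.Main

/-! Base change and composites of tame and unramified extensions. -/

set_option autoImplicit false
universe u

noncomputable section

namespace EtRamTameLib

open IsLocalRing Polynomial
open scoped TensorProduct

theorem tame_of_unramified {A K L : Type u} [CommRing A] [IsDomain A] [IsDiscreteValuationRing A] [Field K] [Algebra A K]
    [IsFractionRing A K] [Field L] [Algebra K L] [FiniteDimensional K L]
    (h : EtRam.IsUnramifiedExt A ((algebraMap K L).comp (algebraMap A K))) :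
    EtRam.IsTamelyRamified A ((algebraMap K L).comp (algebraMap A K)) := by
  intro W hW
  letI : Algebra A W := (RingHom.codRestrict ((algebraMap K L).comp (algebraMap A K)) W hW.1).toAlgebra
  intro hl
  obtain ⟨hw, hs⟩ := @h W hW hl
  refine ⟨hs, fun p hp _ hdvd => hp.one_lt.ne' (Nat.dvd_one.1 ?_)⟩
  rwa [(basic W hW).2.1 hw] at hdvd

theorem unramified_over_radical {A K L M K₂ : Type u} [CommRing A] [IsDomain A] [IsDiscreteValuationRing A] [Field K]
    [Algebra A K] [IsFractionRing A K] [Field L] [Field M] [Field K₂] [Algebra K L] [Algebra K M] [Algebra L M]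
    [IsScalarTower K L M] [Algebra K K₂] [Algebra K₂ M] [IsScalarTower K K₂ M] [FiniteDimensional K M]
    (hL : EtRam.IsTamelyRamified A ((algebraMap K L).comp (algebraMap A K))) {π : A} (hπ : Irreducible π) {e : ℕ} (he : 0 < e)
    (hdiv : ∀ n : ℕ, n ≤ Module.finrank K L → (n : ResidueField A) ≠ 0 → n ∣ e)
    {x : K₂} (hx : x ^ e = algebraMap K K₂ (algebraMap A K π)) (hgen₂ : IntermediateField.adjoin K ({x} : Set K₂) = ⊤)
    (hgen : IntermediateField.adjoin L ({algebraMap K₂ M x} : Set M) = ⊤)
    (V₂ : ValuationSubring K₂) (hV₂ : EtRam.Dominates A ((algebraMap K K₂).comp (algebraMap A K)) V₂) :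
    EtRam.IsUnramifiedExt V₂ ((algebraMap K₂ M).comp V₂.subtype) := by
  intro W hW
  obtain rfl : W.comap (algebraMap K₂ M) = V₂ := comap_eq_of_dominates _ _ _ hW
  have hWA : EtRam.Dominates A ((algebraMap K M).comp (algebraMap A K)) W := by
    rw [show (algebraMap K M).comp (algebraMap A K) = (algebraMap K₂ M).comp ((algebraMap K K₂).comp (algebraMap A K)) by
      rw [IsScalarTower.algebraMap_eq K K₂ M, RingHom.comp_assoc]]
    exact ⟨hV₂.1, fun a ha => (SHDescLib.valuation_comap_lt_one_iff W _ _).1 (hV₂.2 a ha)⟩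
  letI : Algebra (W.comap (algebraMap K₂ M)) W :=
    (RingHom.codRestrict ((algebraMap K₂ M).comp (W.comap (algebraMap K₂ M)).subtype) W hW.1).toAlgebra
  intro hlVW
  letI : Algebra A (W.comap (algebraMap K₂ M)) :=
    (RingHom.codRestrict ((algebraMap K K₂).comp (algebraMap A K)) (W.comap (algebraMap K₂ M)) hV₂.1).toAlgebra
  letI : Algebra A W := (RingHom.codRestrict ((algebraMap K M).comp (algebraMap A K)) W hWA.1).toAlgebra
  haveI hlV : IsLocalHom (algebraMap A (W.comap (algebraMap K₂ M))) := isLocalHom_of_dominates _ hV₂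
  haveI hlW : IsLocalHom (algebraMap A W) := isLocalHom_of_dominates W hWA
  obtain ⟨hfd, -, hrad⟩ := radical (A := A) hgen₂ hπ he hx
  obtain ⟨hidx₂, hsep₂⟩ := hrad _ hV₂
  obtain ⟨hidxW, hsepW⟩ := core (M := M) hL hπ he hdiv (x := algebraMap K₂ M x)
    (by rw [← map_pow, hx, ← IsScalarTower.algebraMap_apply]) hgen W hWA
  obtain ⟨hidx, hsep⟩ := @tower A K K₂ M _ _ _ _ _ _ _ _ _ _ _ _ _ W hWA hlW hlV hlVW
  rw [hidxW, hidx₂] at hidx
  have h1 : Ideal.ramificationIdx' (maximalIdeal (W.comap (algebraMap K₂ M))) (maximalIdeal W) = 1 := by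
    refine (Nat.eq_of_mul_eq_mul_left he ?_).symm
    rw [mul_one]; exact hidx
  have := isDVR (A := A) (K := K) W hWA
  have := isDVR (A := A) (K := K) (W.comap (algebraMap K₂ M)) hV₂
  refine ⟨(weaklyUnramified_iff fun a b h => ?_).2 h1, (hsep.2 hsepW).2⟩
  have h2 : algebraMap K₂ M (a : K₂) = algebraMap K₂ M (b : K₂) := congrArg (fun w : W => (w : M)) h
  exact Subtype.ext ((algebraMap K₂ M).injective h2)

theorem finite_of_adjoin {K L K₁ M : Type u} [Field K] [Field L] [Field K₁] [Field M] [Algebra K L] [Algebra K K₁]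
    [Algebra K M] [Algebra L M] [Algebra K₁ M] [IsScalarTower K L M] [IsScalarTower K K₁ M] [FiniteDimensional K K₁]
    (hgen : Algebra.adjoin L (Set.range (algebraMap K₁ M)) = ⊤) : FiniteDimensional L M := by
  let φ : L ⊗[K] K₁ →ₐ[L] M :=
    Algebra.TensorProduct.lift (Algebra.ofId L M) (IsScalarTower.toAlgHom K K₁ M) fun _ _ => Commute.all _ _
  refine Module.Finite.of_surjective φ.toLinearMap fun m => ?_
  have hle : (⊤ : Subalgebra L M) ≤ φ.range := by
    rw [← hgen]
    refine Algebra.adjoin_le ?_
    rintro _ ⟨k, rfl⟩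
    exact ⟨1 ⊗ₜ k, by
      show φ _ = _
      rw [Algebra.TensorProduct.lift_tmul, map_one, one_mul]; rfl⟩
  exact hle Algebra.mem_top

theorem separable_of_adjoin {K L K₁ M : Type u} [Field K] [Field L] [Field K₁] [Field M] [Algebra K L] [Algebra K K₁]
    [Algebra K M] [Algebra L M] [Algebra K₁ M] [IsScalarTower K L M] [IsScalarTower K K₁ M] [Algebra.IsSeparable K K₁]
    (hgen : Algebra.adjoin L (Set.range (algebraMap K₁ M)) = ⊤) : Algebra.IsSeparable L M := by
  refine ⟨fun m => mem_separableClosure_iff.1 ?_⟩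
  have hle : (⊤ : Subalgebra L M) ≤ (separableClosure L M).toSubalgebra := by
    rw [← hgen]
    refine Algebra.adjoin_le ?_
    rintro _ ⟨k, rfl⟩
    refine mem_separableClosure_iff.2 ?_
    exact ((isSeparable_map_iff (IsScalarTower.toAlgHom K K₁ M) (algebraMap K₁ M).injective).2
      (Algebra.IsSeparable.isSeparable K k)).tower_top L
  exact hle Algebra.mem_top

variable {A B K L K₁ M : Type u} [CommRing A] [IsDomain A] [IsDiscreteValuationRing A]
  [CommRing B] [IsDomain B] [IsDiscreteValuationRing B] [Algebra A B] [IsLocalHom (algebraMap A B)]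
  [Field K] [Field L] [Algebra A K] [IsFractionRing A K] [Algebra B L] [IsFractionRing B L]
  [Algebra K L] [Field K₁] [Algebra K K₁] [FiniteDimensional K K₁]
  [Field M] [Algebra K M] [Algebra L M] [Algebra K₁ M] [IsScalarTower K L M] [IsScalarTower K K₁ M]

set_option maxHeartbeats 1000000 in
theorem tame_baseChange [Algebra.IsSeparable K K₁] (hinj : Function.Injective (algebraMap A B))
    (hA : ∀ a : A, algebraMap K L (algebraMap A K a) = algebraMap B L (algebraMap A B a))
    (hgen : Algebra.adjoin L (Set.range (algebraMap K₁ M)) = ⊤)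
    (h : EtRam.IsTamelyRamified A ((algebraMap K K₁).comp (algebraMap A K))) :
    EtRam.IsTamelyRamified B ((algebraMap L M).comp (algebraMap B L)) := by
  obtain ⟨π, hπ⟩ := IsDiscreteValuationRing.exists_irreducible A
  obtain ⟨e, he, hc, hdiv⟩ := exists_multiple (A := A) (Module.finrank K K₁)
  have hcB : (e : ResidueField B) ≠ 0 := by
    rw [← map_natCast (algebraMap (ResidueField A) (ResidueField B))]; exact (_root_.map_ne_zero _).2 hc
  have : FiniteDimensional L M := finite_of_adjoin (K := K) hgen
  have : Algebra.IsSeparable L M := separable_of_adjoin (K := K) hgen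
  have hb : algebraMap A B π ≠ 0 := (map_ne_zero_iff _ hinj).2 hπ.ne_zero
  obtain ⟨F₂, _, _, _, _, x, hfd, hsep, hx, hgenF⟩ := exists_root_ext (K := L) (L := M) (algebraMap B L (algebraMap A B π))
    ((map_ne_zero_iff _ (IsFractionRing.injective B L)).2 hb) he (cast_ne_zero_field hcB)
  letI : Algebra K F₂ := ((algebraMap L F₂).comp (algebraMap K L)).toAlgebra
  letI : Algebra K₁ F₂ := ((algebraMap M F₂).comp (algebraMap K₁ M)).toAlgebra
  have : IsScalarTower K L F₂ := IsScalarTower.of_algebraMap_eq fun _ => rfl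
  have : IsScalarTower K₁ M F₂ := IsScalarTower.of_algebraMap_eq fun _ => rfl
  have : IsScalarTower K K₁ F₂ := IsScalarTower.of_algebraMap_eq fun c => by
    show algebraMap L F₂ (algebraMap K L c) = algebraMap M F₂ (algebraMap K₁ M (algebraMap K K₁ c))
    rw [← IsScalarTower.algebraMap_apply K K₁ M, IsScalarTower.algebraMap_apply K L M, ← IsScalarTower.algebraMap_apply L M F₂]
  have hxK : x ^ e = algebraMap K F₂ (algebraMap A K π) := by
    rw [hx, ← hA]; rfl
  have hroot : aeval x (X ^ e - C (algebraMap K K₁ (algebraMap A K π)) : K₁[X]) = 0 := by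
    simp only [map_sub, map_pow, aeval_X, aeval_C]
    rw [← IsScalarTower.algebraMap_apply, sub_eq_zero]; exact hxK
  let K₂ := IntermediateField.adjoin K ({x} : Set F₂)
  let L₂ := IntermediateField.adjoin L ({x} : Set F₂)
  let M₂ := IntermediateField.adjoin K₁ ({x} : Set F₂)
  let x₂ : K₂ := ⟨x, IntermediateField.mem_adjoin_simple_self K x⟩
  obtain ⟨hfdK₂, -, -⟩ := radical (A := A) (adjoin_gen_eq_top (k := K) x) hπ he (Subtype.ext hxK)
  have hKL : K₂ ≤ L₂.restrictScalars K :=
    IntermediateField.adjoin_simple_le_iff.2 (IntermediateField.mem_adjoin_simple_self L x)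
  have hKM : K₂ ≤ M₂.restrictScalars K :=
    IntermediateField.adjoin_simple_le_iff.2 (IntermediateField.mem_adjoin_simple_self K₁ x)
  letI : Algebra K₂ L₂ := (IntermediateField.inclusion hKL).toRingHom.toAlgebra
  letI : Algebra K₂ M₂ := (IntermediateField.inclusion hKM).toRingHom.toAlgebra
  have : IsScalarTower K₂ L₂ F₂ := IsScalarTower.of_algebraMap_eq fun _ => rfl
  have : IsScalarTower K₂ M₂ F₂ := IsScalarTower.of_algebraMap_eq fun _ => rfl
  have : IsScalarTower K K₂ M₂ := IsScalarTower.of_algebraMap_eq fun c =>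
    Subtype.ext rfl
  have : FiniteDimensional K₁ M₂ := IntermediateField.adjoin.finiteDimensional
    ⟨_, monic_X_pow_sub_C _ he.ne', by rw [← aeval_def]; exact hroot⟩
  have : FiniteDimensional K M₂ := FiniteDimensional.trans K K₁ M₂
  have : FiniteDimensional K₂ M₂ := FiniteDimensional.right K K₂ M₂
  have : FiniteDimensional L L₂ := IntermediateField.finiteDimensional_left L₂
  refine tame_sub (M := F₂) (tame_comp (L := L₂) ?_ ?_)
  · exact tame_radical hb he hcB (Subtype.ext hx) (adjoin_gen_eq_top x)
  intro V hV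
  have := isDVR (A := B) (K := L) V hV
  let V₂ := V.comap (algebraMap K₂ L₂)
  have hVA : EtRam.Dominates A ((algebraMap K K₂).comp (algebraMap A K)) V₂ := by
    have he' : ∀ a, algebraMap K₂ L₂ (algebraMap K K₂ (algebraMap A K a)) = algebraMap L L₂ (algebraMap B L (algebraMap A B a)) :=
      fun a => Subtype.ext (by rw [← hA]; rfl)
    refine ⟨fun a => ?_, fun a ha => (SHDescLib.valuation_comap_lt_one_iff V (algebraMap K₂ L₂) _).2 ?_⟩
    · show algebraMap K₂ L₂ (algebraMap K K₂ (algebraMap A K a)) ∈ V
      rw [he']; exact hV.1 _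
    · show V.valuation (algebraMap K₂ L₂ (algebraMap K K₂ (algebraMap A K a))) < 1
      rw [he']; exact hV.2 _ fun hu => ha (IsUnit.of_map (algebraMap A B) a hu)
  have := isDVR (A := A) (K := K) V₂ hVA
  letI : Algebra V₂ V := (EtRam.inclOfComap V (algebraMap K₂ L₂)).toAlgebra
  haveI : IsLocalHom (algebraMap V₂ V) := EtRam.isLocalHom_inclOfComap V (algebraMap K₂ L₂)
  have hun : EtRam.IsUnramifiedExt V₂ ((algebraMap K₂ M₂).comp V₂.subtype) :=
    unramified_over_radical (L := K₁) (M := M₂) h hπ he hdiv (x := x₂) (Subtype.ext hxK) (adjoin_gen_eq_top x)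
      (adjoin_gen_eq_top x) V₂ hVA
  have : FiniteDimensional L₂ F₂ := FiniteDimensional.right L L₂ F₂
  refine tame_of_unramified (A := V) (K := L₂) (SolSepLib.unramified_baseChange (A := V₂) (B := V) (K := K₂) (L := L₂)
    (K₁ := M₂) (M := F₂) (fun a b hab => ?_) (fun a => rfl) (top_unique fun z _ => ?_) hun)
  · have h2 : algebraMap K₂ L₂ (a : K₂) = algebraMap K₂ L₂ (b : K₂) := congrArg (fun w : V => (w : L₂)) hab
    exact Subtype.ext ((algebraMap K₂ L₂).injective h2)
  · let S := Algebra.adjoin L₂ (Set.range (algebraMap M₂ F₂))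
    have hk : ∀ k : K₁, algebraMap K₁ F₂ k ∈ S := fun k => Algebra.subset_adjoin ⟨algebraMap K₁ M₂ k, rfl⟩
    have hm : ∀ m : M, algebraMap M F₂ m ∈ S := fun m => by
      have h1 : m ∈ Algebra.adjoin L (Set.range (algebraMap K₁ M)) := hgen ▸ Algebra.mem_top
      induction h1 using Algebra.adjoin_induction with
      | mem w hw => obtain ⟨k, rfl⟩ := hw; exact hk k
      | algebraMap l => rw [← IsScalarTower.algebraMap_apply]; exact Subalgebra.algebraMap_mem S (algebraMap L L₂ l)
      | add a b _ _ ha hb => rw [map_add]; exact add_mem ha hb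
      | mul a b _ _ ha hb => rw [map_mul]; exact mul_mem ha hb
    have hxS : x ∈ S := Algebra.subset_adjoin ⟨⟨x, IntermediateField.mem_adjoin_simple_self K₁ x⟩, rfl⟩
    have hz : z ∈ Algebra.adjoin M ({x} : Set F₂) := by
      rw [← IntermediateField.adjoin_simple_toSubalgebra_of_isAlgebraic, hgenF]
      · trivial
      · have : FiniteDimensional M F₂ := FiniteDimensional.right L M F₂
        exact Algebra.IsAlgebraic.isAlgebraic x
    induction hz using Algebra.adjoin_induction with
    | mem w hw => rw [Set.mem_singleton_iff.1 hw]; exact hxS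
    | algebraMap m => exact hm m
    | add a b _ _ ha hb => exact add_mem (ha trivial) (hb trivial)
    | mul a b _ _ ha hb => exact mul_mem (ha trivial) (hb trivial)

omit [FiniteDimensional K K₁] in
/-- A composite of two tame extensions. -/
theorem tame_sup [FiniteDimensional K L] [FiniteDimensional K K₁] [Algebra.IsSeparable K K₁] [FiniteDimensional K M]
    (hgen : Algebra.adjoin L (Set.range (algebraMap K₁ M)) = ⊤)
    (h₁ : EtRam.IsTamelyRamified A ((algebraMap K L).comp (algebraMap A K)))
    (h₂ : EtRam.IsTamelyRamified A ((algebraMap K K₁).comp (algebraMap A K))) :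
    EtRam.IsTamelyRamified A ((algebraMap K M).comp (algebraMap A K)) := by
  refine tame_comp (L := L) h₁ fun V hV => ?_
  have := isDVR (A := A) (K := K) V hV
  letI : Algebra A V := (RingHom.codRestrict ((algebraMap K L).comp (algebraMap A K)) V hV.1).toAlgebra
  haveI : IsLocalHom (algebraMap A V) := isLocalHom_of_dominates V hV
  exact tame_baseChange (A := A) (B := V) (K := K) (L := L) (K₁ := K₁) (M := M)
    (fun a b h => IsFractionRing.injective A K ((algebraMap K L).injective (congrArg (fun w : V => (w : L)) h)))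
    (fun a => rfl) hgen h₂

omit [FiniteDimensional K K₁] in
/-- A composite of two unramified extensions. -/
theorem unramified_sup [FiniteDimensional K L] [FiniteDimensional K K₁] [FiniteDimensional K M]
    (hgen : Algebra.adjoin L (Set.range (algebraMap K₁ M)) = ⊤)
    (h₁ : EtRam.IsUnramifiedExt A ((algebraMap K L).comp (algebraMap A K)))
    (h₂ : EtRam.IsUnramifiedExt A ((algebraMap K K₁).comp (algebraMap A K))) :
    EtRam.IsUnramifiedExt A ((algebraMap K M).comp (algebraMap A K)) := by
  refine unramified_comp (L := L) h₁ fun V hV => ?_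
  have := isDVR (A := A) (K := K) V hV
  letI : Algebra A V := (RingHom.codRestrict ((algebraMap K L).comp (algebraMap A K)) V hV.1).toAlgebra
  haveI : IsLocalHom (algebraMap A V) := isLocalHom_of_dominates V hV
  exact SolSepLib.unramified_baseChange (A := A) (B := V) (K := K) (L := L) (K₁ := K₁) (M := M)
    (fun a b h => IsFractionRing.injective A K ((algebraMap K L).injective (congrArg (fun w : V => (w : L)) h)))
    (fun a => rfl) hgen h₂

end EtRamTameLib
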