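import Groth.Agent.EtRamTameLib.EtaleRing
import Mathlib.AlgebraicGeometry.Morphisms.Etale
import Mathlib.AlgebraicGeometry.Morphisms.Finite
import Mathlib.AlgebraicGeometry.ResidueField

/-! Finite étale morphisms induce unramified residue extensions at valuation rings with centre. -/

set_option autoImplicit false
universe u

noncomputable section

namespace EtRamTameLib

open CategoryTheory CategoryTheory.Limits AlgebraicGeometry

theorem tame_residueField_of_finite_etale {X Y : Scheme.{u}} (f : Y ⟶ X) [IsFinite f] [Etale f] (y : Y)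
    (A : ValuationSubring (X.residueField (f.base y))) [IsDiscreteValuationRing A]
    (l : Spec (CommRingCat.of A) ⟶ X)
    (hl : Spec.map (CommRingCat.ofHom A.subtype) ≫ l = X.fromSpecResidueField (f.base y)) :
    EtRam.IsTamelyRamified A ((f.residueFieldMap y).hom.comp A.subtype) := by
  let L := Y.residueField y
  let K := X.residueField (f.base y)
  let g : A →+* L := (f.residueFieldMap y).hom.comp A.subtype
  let P := pullback f l
  haveI : IsFinite (pullback.snd f l) := inferInstance
  haveI : IsAffine P := isAffine_of_isAffineHom (pullback.snd f l)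
  let B := Γ(P, ⊤)
  let φ : CommRingCat.of A ⟶ B := Spec.preimage (P.isoSpec.inv ≫ pullback.snd f l)
  have hφ : Spec.map φ = P.isoSpec.inv ≫ pullback.snd f l := Spec.map_preimage _
  have hfin : IsFinite (Spec.map φ) := by rw [hφ]; infer_instance
  have het : Etale (Spec.map φ) := by rw [hφ]; infer_instance
  rw [IsFinite.SpecMap_iff] at hfin
  rw [HasRingHomProperty.Spec_iff (P := @Etale)] at het
  have hw : Y.fromSpecResidueField y ≫ f = Spec.map (CommRingCat.ofHom g) ≫ l := by
    rw [← Scheme.Hom.SpecMap_residueFieldMap_fromSpecResidueField, ← hl, ← Category.assoc, ← Spec.map_comp]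
    rfl
  let t : Spec L ⟶ P := pullback.lift (Y.fromSpecResidueField y) (Spec.map (CommRingCat.ofHom g)) hw
  let ψ : B ⟶ L := Spec.preimage (t ≫ P.isoSpec.hom)
  have hψ : Spec.map ψ = t ≫ P.isoSpec.hom := Spec.map_preimage _
  have hψφ : φ ≫ ψ = CommRingCat.ofHom g := Spec.map_injective (by
    rw [Spec.map_comp, hψ, hφ, Category.assoc, Iso.hom_inv_id_assoc]
    exact pullback.lift_snd _ _ _)
  letI : Algebra A B := φ.hom.toAlgebra
  letI : Algebra K L := (f.residueFieldMap y).hom.toAlgebra
  letI : Algebra A L := g.toAlgebra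
  haveI : IsScalarTower A K L := IsScalarTower.of_algebraMap_eq fun a => rfl
  haveI : Module.Finite A B := hfin
  haveI : Algebra.Etale A B := het
  let ψA : B →ₐ[A] L :=
    { ψ.hom with commutes' := fun a => RingHom.congr_fun (congrArg CommRingCat.Hom.hom hψφ) a }
  suffices hgen : IntermediateField.adjoin K (Set.range ψA) = ⊤ by
    haveI := finite_of_gen ψA hgen
    exact tame_of_unramified (unramified_of_etale (K := K) ψA hgen)
  let F := IntermediateField.adjoin K (Set.range ψA)
  let ψ' : B ⟶ CommRingCat.of F :=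
    CommRingCat.ofHom (ψ.hom.codRestrict F.toSubfield.toSubring fun b => IntermediateField.subset_adjoin K _ ⟨b, rfl⟩)
  let j : CommRingCat.of F ⟶ L := CommRingCat.ofHom F.val.toRingHom
  let h : Spec (CommRingCat.of F) ⟶ Y := Spec.map ψ' ≫ P.isoSpec.inv ≫ pullback.fst f l
  have hj : Spec.map j ≫ h = Y.fromSpecResidueField y := by
    rw [← Spec.map_comp_assoc, show ψ' ≫ j = ψ from rfl, hψ, Category.assoc, Iso.hom_inv_id_assoc]
    exact pullback.lift_fst _ _ _
  obtain ⟨⟨y', m⟩, hm⟩ := (Scheme.SpecToEquivOfField F Y).symm.surjective h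
  have hEq : (⟨y', m ≫ j⟩ : Σ x, Y.residueField x ⟶ L) = ⟨y, 𝟙 _⟩ :=
    (Scheme.SpecToEquivOfField L Y).symm.injective (by
      rw [Scheme.SpecToEquivOfField_symm_apply] at hm
      show Spec.map (m ≫ j) ≫ Y.fromSpecResidueField y' = Spec.map (𝟙 L) ≫ Y.fromSpecResidueField y
      rw [Spec.map_comp_assoc, hm, hj, Spec.map_id, Category.id_comp])
  obtain ⟨rfl, hmj⟩ := Sigma.mk.inj hEq
  refine eq_top_iff.2 fun z _ => ?_
  have h1 : j (m z) = z := RingHom.congr_fun (congrArg CommRingCat.Hom.hom (eq_of_heq hmj)) z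
  exact h1 ▸ (show F from m z).2

end EtRamTameLib
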