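import Groth.Agent.EtRamTameLib.Base
import Mathlib.FieldTheory.Normal.Closure
import Mathlib.FieldTheory.Galois.Basic

/-! Galois closures inside classes of extensions closed under subextensions and composites. -/

set_option autoImplicit false
universe u

noncomputable section

namespace EtRamTameLib

open Polynomial

variable {K : Type u} [Field K] (P : ∀ (L : Type u) [Field L] [Algebra K L], Prop)

/-- Closed under subextensions and composites, and contains the trivial extension. -/
structure Closed : Prop where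
  bot : P K
  sub : ∀ (L M : Type u) [Field L] [Field M] [Algebra K L] [Algebra K M] [Algebra L M] [IsScalarTower K L M]
    [FiniteDimensional K M], P M → P L
  sup : ∀ (L K₁ M : Type u) [Field L] [Field K₁] [Field M] [Algebra K L] [Algebra K K₁] [Algebra K M] [Algebra L M]
    [Algebra K₁ M] [IsScalarTower K L M] [IsScalarTower K K₁ M] [FiniteDimensional K L] [FiniteDimensional K K₁]
    [FiniteDimensional K M] [Algebra.IsSeparable K K₁],
    Algebra.adjoin L (Set.range (algebraMap K₁ M)) = ⊤ → P L → P K₁ → P M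

variable {P} (hP : Closed P)
include hP

theorem Closed.of_equiv {L M : Type u} [Field L] [Field M] [Algebra K L] [Algebra K M] [FiniteDimensional K M]
    (e : L ≃ₐ[K] M) (h : P M) : P L := by
  letI : Algebra L M := e.toAlgHom.toRingHom.toAlgebra
  have : IsScalarTower K L M := IsScalarTower.of_algebraMap_eq fun c => (e.commutes c).symm
  exact hP.sub L M h

theorem Closed.sup_mem {Ω : Type u} [Field Ω] [Algebra K Ω] {F G : IntermediateField K Ω} [FiniteDimensional K F]
    [FiniteDimensional K G] [Algebra.IsSeparable K G] (hF : P F) (hG : P G) : P ↥(F ⊔ G) := by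
  letI : Algebra F ↥(F ⊔ G) := (IntermediateField.inclusion (le_sup_left : F ≤ F ⊔ G)).toRingHom.toAlgebra
  letI : Algebra G ↥(F ⊔ G) := (IntermediateField.inclusion (le_sup_right : G ≤ F ⊔ G)).toRingHom.toAlgebra
  have : IsScalarTower K F ↥(F ⊔ G) := IsScalarTower.of_algebraMap_eq fun c => Subtype.ext rfl
  have : IsScalarTower K G ↥(F ⊔ G) := IsScalarTower.of_algebraMap_eq fun c => Subtype.ext rfl
  refine hP.sup F G ↥(F ⊔ G) (top_unique fun z _ => ?_) hF hG
  let S := Algebra.adjoin F (Set.range (algebraMap G ↥(F ⊔ G)))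
  let v : ↥(F ⊔ G) →ₐ[K] Ω := (F ⊔ G).val
  have hle : (F ⊔ G).toSubalgebra ≤ (S.restrictScalars K).map v := by
    rw [IntermediateField.sup_toSubalgebra_of_left]
    refine sup_le (fun f hf => ?_) (fun g hg => ?_)
    · exact ⟨algebraMap F _ ⟨f, hf⟩, Subalgebra.algebraMap_mem S _, rfl⟩
    · exact ⟨algebraMap G _ ⟨g, hg⟩, Algebra.subset_adjoin ⟨⟨g, hg⟩, rfl⟩, rfl⟩
  obtain ⟨w, hw, hwz⟩ := hle z.2
  exact (Subtype.ext hwz : w = z) ▸ hw

theorem Closed.range_mem {L Ω : Type u} [Field L] [Field Ω] [Algebra K L] [Algebra K Ω] [FiniteDimensional K L] (hL : P L)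
    (f : L →ₐ[K] Ω) : P f.fieldRange :=
  hP.of_equiv (AlgEquiv.ofInjectiveField f).symm hL

theorem Closed.galois {L : Type u} [Field L] [Algebra K L] [FiniteDimensional K L] [Algebra.IsSeparable K L] (hL : P L) :
    ∃ (M : Type u) (_ : Field M) (_ : Algebra K M) (_ : FiniteDimensional K M) (_ : IsGalois K M) (_ : L →ₐ[K] M), P M := by
  classical
  let Ω := AlgebraicClosure K
  let i : L →ₐ[K] Ω := IsAlgClosed.lift
  have key : ∀ s : Finset (L →ₐ[K] Ω), FiniteDimensional K ↥(s.sup fun f => f.fieldRange) ∧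
      Algebra.IsSeparable K ↥(s.sup fun f => f.fieldRange) ∧ P ↥(s.sup fun f => f.fieldRange) := by
    intro s
    induction s using Finset.induction_on with
    | empty =>
      rw [Finset.sup_empty]
      exact ⟨inferInstance, inferInstance, hP.of_equiv (IntermediateField.botEquiv K Ω) hP.bot⟩
    | insert f s _ ih =>
      obtain ⟨h1, h2, h3⟩ := ih
      have : Algebra.IsSeparable K f.fieldRange := AlgEquiv.Algebra.isSeparable (AlgEquiv.ofInjectiveField f)
      have : FiniteDimensional K f.fieldRange := (AlgEquiv.ofInjectiveField f).toLinearEquiv.finiteDimensional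
      rw [Finset.sup_insert, sup_comm]
      exact ⟨inferInstance, inferInstance, hP.sup_mem h3 (hP.range_mem hL f)⟩
  have : Finite (L →ₐ[K] Ω) := inferInstance
  let _ : Fintype (L →ₐ[K] Ω) := Fintype.ofFinite _
  obtain ⟨h1, h2, h3⟩ := key Finset.univ
  have heq : (Finset.univ : Finset (L →ₐ[K] Ω)).sup (fun f => f.fieldRange) = IntermediateField.normalClosure K L Ω := by
    rw [Finset.sup_univ_eq_iSup]; rfl
  rw [heq] at h1 h2 h3
  have : IsGalois K (IntermediateField.normalClosure K L Ω) := ⟨⟩
  exact ⟨IntermediateField.normalClosure K L Ω, inferInstance, inferInstance, h1, this,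
    (IntermediateField.inclusion i.fieldRange_le_normalClosure).comp (AlgEquiv.ofInjectiveField i).toAlgHom, h3⟩

theorem Closed.compositum {L₁ L₂ : Type u} [Field L₁] [Field L₂] [Algebra K L₁] [Algebra K L₂] [FiniteDimensional K L₁]
    [FiniteDimensional K L₂] [Algebra.IsSeparable K L₁] [Algebra.IsSeparable K L₂] (h₁ : P L₁) (h₂ : P L₂) :
    ∃ (M : Type u) (_ : Field M) (_ : Algebra K M) (_ : FiniteDimensional K M) (_ : Algebra.IsSeparable K M)
      (_ : L₁ →ₐ[K] M) (_ : L₂ →ₐ[K] M), P M := by
  let Ω := AlgebraicClosure K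
  let i₁ : L₁ →ₐ[K] Ω := IsAlgClosed.lift
  let i₂ : L₂ →ₐ[K] Ω := IsAlgClosed.lift
  have : Algebra.IsSeparable K i₁.fieldRange := AlgEquiv.Algebra.isSeparable (AlgEquiv.ofInjectiveField i₁)
  have : Algebra.IsSeparable K i₂.fieldRange := AlgEquiv.Algebra.isSeparable (AlgEquiv.ofInjectiveField i₂)
  have : FiniteDimensional K i₁.fieldRange := (AlgEquiv.ofInjectiveField i₁).toLinearEquiv.finiteDimensional
  have : FiniteDimensional K i₂.fieldRange := (AlgEquiv.ofInjectiveField i₂).toLinearEquiv.finiteDimensional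
  exact ⟨↥(i₁.fieldRange ⊔ i₂.fieldRange), inferInstance, inferInstance, inferInstance, inferInstance,
    (IntermediateField.inclusion le_sup_left).comp (AlgEquiv.ofInjectiveField i₁).toAlgHom,
    (IntermediateField.inclusion le_sup_right).comp (AlgEquiv.ofInjectiveField i₂).toAlgHom,
    hP.sup_mem (hP.range_mem h₁ i₁) (hP.range_mem h₂ i₂)⟩

omit hP

variable {A : Type u} [CommRing A] [IsDomain A] [IsDiscreteValuationRing A] [Algebra A K] [IsFractionRing A K]

theorem unramified_self : EtRam.IsUnramifiedExt A ((algebraMap K K).comp (algebraMap A K)) :=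
  unramified_of_root (X : A[X]) monic_X (by rw [map_X]; exact separable_X) (by rw [map_X]; exact separable_X)
    (r := 0) (Subsingleton.elim _ _) (by rw [eval₂_X])

theorem closed_unramified :
    Closed (K := K) fun L _ _ => EtRam.IsUnramifiedExt A ((algebraMap K L).comp (algebraMap A K)) :=
  ⟨unramified_self, fun _ _ _ _ _ _ _ _ _ h => unramified_sub h, fun _ _ _ _ _ _ _ _ _ _ _ _ _ _ _ _ _ hgen => unramified_sup hgen⟩

theorem closed_tame :
    Closed (K := K) fun L _ _ => EtRam.IsTamelyRamified A ((algebraMap K L).comp (algebraMap A K)) :=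
  ⟨tame_of_unramified unramified_self, fun _ _ _ _ _ _ _ _ _ h => tame_sub h,
    fun _ _ _ _ _ _ _ _ _ _ _ _ _ _ _ _ _ hgen => tame_sup hgen⟩

end EtRamTameLib
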