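import Groth.Agent.EtRamTameLib.Base
import Groth.Agent.SHDescLib.Conj
import Mathlib.NumberTheory.RamificationInertia.Galois
import Mathlib.RingTheory.Invariant.Galois
import Mathlib.RingTheory.DedekindDomain.IntegralClosure

/-! Galois extensions of degree prime to the residue characteristic are tame. -/

set_option autoImplicit false
universe u

noncomputable section

namespace EtRamTameLib

open IsLocalRing

theorem isSeparable_of_finrank_ne_zero {k l : Type u} [Field k] [Field l] [Algebra k l] [FiniteDimensional k l]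
    (h : (Module.finrank k l : k) ≠ 0) : Algebra.IsSeparable k l := by
  obtain ⟨q, hq⟩ := ExpChar.exists k
  have : ExpChar (separableClosure k l) q := expChar_of_injective_algebraMap (algebraMap k (separableClosure k l)).injective q
  obtain ⟨n, hn⟩ := IsPurelyInseparable.finrank_eq_pow (F := separableClosure k l) (E := l) q
  have hmul := Module.finrank_mul_finrank k (separableClosure k l) l
  refine (separableClosure.eq_top_iff k l).1 (IntermediateField.eq_of_le_of_finrank_le le_top ?_)
  rw [IntermediateField.finrank_top', ← hmul, hn]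
  cases hq with
  | zero => simp
  | prime hp =>
    cases n with
    | zero => simp
    | succ n => exact absurd (by rw [← hmul, hn, Nat.cast_mul, Nat.cast_pow, CharP.cast_eq_zero k q, zero_pow (Nat.succ_ne_zero n), mul_zero]) h

set_option maxHeartbeats 800000 in
theorem tame_of_isGalois {A K L : Type u} [CommRing A] [IsDomain A] [IsDiscreteValuationRing A] [Field K] [Algebra A K]
    [IsFractionRing A K] [Field L] [Algebra K L] [FiniteDimensional K L] [IsGalois K L]
    (hd : ((Module.finrank K L : ℕ) : ResidueField A) ≠ 0) :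
    EtRam.IsTamelyRamified A ((algebraMap K L).comp (algebraMap A K)) := by
  classical
  letI : Algebra A L := ((algebraMap K L).comp (algebraMap A K)).toAlgebra
  haveI : IsScalarTower A K L := IsScalarTower.of_algebraMap_eq fun _ => rfl
  intro W hW
  letI : Algebra A W := (RingHom.codRestrict ((algebraMap K L).comp (algebraMap A K)) W hW.1).toAlgebra
  intro hloc
  let B := integralClosure A L
  haveI : IsFractionRing B L := integralClosure.isFractionRing_of_finite_extension K L
  haveI : IsDedekindDomain B := IsIntegralClosure.isDedekindDomain A K L B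
  haveI : Module.Finite A B := IsIntegralClosure.finite A K L B
  haveI : Algebra.IsIntegral A B := IsIntegralClosure.isIntegral_algebra A L
  letI := IsIntegralClosure.MulSemiringAction A K L B
  haveI : IsGaloisGroup Gal(L/K) A B := IsGaloisGroup.of_isFractionRing Gal(L/K) A B K L
  have hinjL : Function.Injective (algebraMap A L) := (algebraMap K L).injective.comp (IsFractionRing.injective A K)
  haveI : Module.IsTorsionFree A B := Module.isTorsionFree_iff_algebraMap_injective.2
    fun a b h => hinjL (congrArg Subtype.val h)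
  haveI : Module.Flat A B := IsDedekindDomain.flat_iff_torsion_eq_bot.2 (Submodule.isTorsionFree_iff_torsion_eq_bot.1 ‹_›)
  have hBW : ∀ b : B, (b : L) ∈ W := fun b =>
    (W.valuation_le_one_iff _).1 (SHDescLib.valuation_le_one_of_isIntegral (B := A) W hW b.2)
  let ι : B →+* W := B.val.toRingHom.codRestrict W.toSubring hBW
  have hιA : ∀ a : A, ι (algebraMap A B a) = algebraMap A W a := fun a => rfl
  let P : Ideal B := (maximalIdeal W).comap ι
  haveI : P.IsPrime := Ideal.IsPrime.comap _
  haveI hover : P.LiesOver (maximalIdeal A) := ⟨(by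
    refine le_antisymm (fun a ha => ?_) (IsLocalRing.le_maximalIdeal (Ideal.IsPrime.comap _).ne_top)
    show ι (algebraMap A B a) ∈ maximalIdeal W
    rw [hιA]
    exact fun hu => ha (isUnit_of_map_unit _ a hu))⟩
  haveI : P.IsMaximal := Ideal.IsMaximal.of_liesOver_isMaximal P (maximalIdeal A)
  have hden : ∀ z : W, ∃ s c : B, s ∉ P ∧ ι s * z = ι c := fun z => by
    obtain ⟨s, hs, hs1, hsz⟩ := SHDescLib.exists_denominator (B := A) (L := K) (z := (z : L)) W hW
      (Algebra.IsAlgebraic.isAlgebraic _) z.2
    exact ⟨⟨s, hs⟩, ⟨_, hsz⟩, fun hm => hs1.not_lt ((W.valuation_lt_one_iff (ι ⟨s, hs⟩)).1 hm), Subtype.ext rfl⟩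
  have hPW : P.map ι = maximalIdeal W := by
    refine le_antisymm Ideal.map_comap_le fun z hz => ?_
    obtain ⟨s, c, hs, hsc⟩ := hden z
    obtain ⟨u, hu⟩ := not_not.1 hs
    rw [show z = (u⁻¹ : Wˣ) * ι c by rw [← hsc, ← hu, Units.inv_mul_cancel_left]]
    exact Ideal.mul_mem_left _ _ (Ideal.mem_map_of_mem _ (show ι c ∈ maximalIdeal W by
      rw [← hsc]; exact Ideal.mul_mem_left _ _ hz))
  have hpow : ∀ (k : ℕ) (x : B), ι x ∈ maximalIdeal W ^ k → x ∈ P ^ k := by
    intro k x hx
    rw [← hPW, ← Ideal.map_pow] at hx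
    have key : ∀ z ∈ (P ^ k).map ι, ∃ s ∉ P, ∃ y ∈ P ^ k, ι s * z = ι y := fun z hz => by
      induction hz using Submodule.span_induction with
      | mem z hz => obtain ⟨y, hy, rfl⟩ := hz; exact ⟨1, (Ideal.ne_top_iff_one P).1 Ideal.IsPrime.ne_top', y, hy, by rw [map_one, one_mul]⟩
      | zero => exact ⟨1, (Ideal.ne_top_iff_one P).1 Ideal.IsPrime.ne_top', 0, zero_mem _, by rw [mul_zero, map_zero]⟩
      | add z w _ _ hz hw =>
        obtain ⟨s, hs, y, hy, hsy⟩ := hz
        obtain ⟨t, ht, v, hv, htv⟩ := hw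
        refine ⟨s * t, Ideal.IsPrime.mul_notMem ‹_› hs ht, t * y + s * v, add_mem (Ideal.mul_mem_left _ _ hy) (Ideal.mul_mem_left _ _ hv), ?_⟩
        rw [map_add, map_mul, map_mul, map_mul, ← hsy, ← htv]; ring
      | smul r z _ hz =>
        obtain ⟨s, hs, y, hy, hsy⟩ := hz
        obtain ⟨t, c, ht, htc⟩ := hden r
        refine ⟨t * s, Ideal.IsPrime.mul_notMem ‹_› ht hs, c * y, Ideal.mul_mem_left _ _ hy, ?_⟩
        rw [map_mul, map_mul, ← hsy, ← htc, smul_eq_mul]; ring
    obtain ⟨s, hs, y, hy, hsy⟩ := key _ hx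
    have h1 : s * x ∈ P ^ k := by
      rw [show s * x = y from Subtype.ext (congrArg Subtype.val hsy :)]; exact hy
    obtain ⟨t, ht⟩ : ∃ t, 1 - t * s ∈ P ^ k := by
      have h2 : Ideal.span {s} ⊔ P ^ k = ⊤ := Ideal.sup_pow_eq_top (by
        rw [sup_comm]
        exact ‹P.IsMaximal›.out.2 _ (lt_of_le_of_ne le_sup_left fun h => hs (h ▸
          Ideal.mem_sup_right (Ideal.mem_span_singleton_self _))))
      obtain ⟨a, ha, b, hb, hab⟩ := Submodule.mem_sup.1 ((Ideal.eq_top_iff_one _).1 h2)
      obtain ⟨t, rfl⟩ := Ideal.mem_span_singleton'.1 ha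
      exact ⟨t, by rw [show 1 - t * s = b by rw [← hab]; ring]; exact hb⟩
    rw [show x = (1 - t * s) * x + t * (s * x) by ring]
    exact add_mem (Ideal.mul_mem_right _ _ ht) (Ideal.mul_mem_left _ _ h1)
  have hidx : Ideal.ramificationIdx' (maximalIdeal A) (maximalIdeal W) = Ideal.ramificationIdx' (maximalIdeal A) P := by
    refine congrArg sSup (Set.ext fun k => ?_)
    simp only [Set.mem_setOf_eq, Ideal.map_le_iff_le_comap]
    refine ⟨fun h a ha => hpow k _ (h ha), fun h a ha => ?_⟩
    show ι (algebraMap A B a) ∈ maximalIdeal W ^ k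
    rw [← hPW, ← Ideal.map_pow]
    exact Ideal.mem_map_of_mem _ (h ha)
  have hdvd : ∀ n ∈ [Ideal.ramificationIdx' (maximalIdeal A) P, Module.finrank (A ⧸ maximalIdeal A) (B ⧸ P)],
      n ∣ Module.finrank K L := by
    have h := Ideal.ncard_primesOver_mul_ramificationIdxIn_mul_inertiaDegIn (maximalIdeal A) B Gal(L/K)
    rw [Ideal.ramificationIdxIn_eq_ramificationIdx (maximalIdeal A) P Gal(L/K),
      Ideal.inertiaDegIn_eq_inertiaDeg (maximalIdeal A) P Gal(L/K), IsGalois.card_aut_eq_finrank,
      Ideal.inertiaDeg_eq_of_isMaximal (maximalIdeal A) P,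
      ← Ideal.ramificationIdx'_eq_ramificationIdx (maximalIdeal A) P (IsDiscreteValuationRing.not_a_field A)] at h
    intro n hn
    rcases List.mem_pair.1 hn with rfl | rfl
    · rw [← h]; exact Dvd.dvd.mul_left (dvd_mul_right _ _) _
    · rw [← h]; exact Dvd.dvd.mul_left (dvd_mul_left _ _) _
  have hne : ∀ n, n ∣ Module.finrank K L → (n : ResidueField A) ≠ 0 := fun n hn h0 => hd (by
    obtain ⟨m, hm⟩ := hn
    rw [hm, Nat.cast_mul, h0, zero_mul])
  refine ⟨?_, fun p hp hchar hdiv => ?_⟩
  · letI : Field (B ⧸ P) := Ideal.Quotient.field P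
    letI : Algebra (ResidueField A) (B ⧸ P) := Ideal.Quotient.algebraOfLiesOver P (maximalIdeal A)
    haveI : IsScalarTower A (ResidueField A) (B ⧸ P) := IsScalarTower.of_algebraMap_eq fun a => rfl
    haveI : Module.Finite (ResidueField A) (B ⧸ P) := Module.Finite.of_restrictScalars_finite A _ _
    haveI : Algebra.IsSeparable (ResidueField A) (B ⧸ P) :=
      isSeparable_of_finrank_ne_zero (k := ResidueField A) (hne _ (hdvd (Module.finrank (A ⧸ maximalIdeal A) (B ⧸ P)) (by simp)))
    let j : B ⧸ P →+* ResidueField W := Ideal.Quotient.lift P ((residue W).comp ι) fun x hx => (residue_eq_zero_iff _).2 hx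
    have hj : Function.Surjective j := fun z => by
      obtain ⟨w, rfl⟩ := residue_surjective z
      obtain ⟨s, c, hs, hsc⟩ := hden w
      refine ⟨(Ideal.Quotient.mk P c) / (Ideal.Quotient.mk P s), ?_⟩
      rw [map_div₀, div_eq_iff]
      · show residue W (ι c) = residue W w * residue W (ι s)
        rw [← map_mul, ← hsc, mul_comm]
      · exact fun h0 => hs ((residue_eq_zero_iff (ι s)).1 h0)
    let ja : B ⧸ P →ₐ[ResidueField A] ResidueField W :=
      { j with
        commutes' := fun c => by
          obtain ⟨a, rfl⟩ := residue_surjective c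
          rfl }
    refine ⟨fun z => ?_⟩
    obtain ⟨y, rfl⟩ := hj z
    exact (isSeparable_map_iff ja ja.toRingHom.injective).2 (Algebra.IsSeparable.isSeparable (ResidueField A) y)
  · exact hne _ (hdvd _ (by simp)) ((CharP.cast_eq_zero_iff (ResidueField A) p _).2 (hidx ▸ hdiv))

end EtRamTameLib
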