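import Groth.Agent.EtRamTameLib.GaloisDegree
import Groth.Prelude.Def_FEt
import Mathlib.AlgebraicGeometry.Morphisms.Etale
import Mathlib.AlgebraicGeometry.Morphisms.Finite
import Mathlib.AlgebraicGeometry.ResidueField
import Mathlib.RingTheory.Unramified.Field

/-! Residue extensions of Galois covers are Galois, of degree dividing the group order. -/

set_option autoImplicit false
universe u

noncomputable section

namespace EtRamTameLib

open CategoryTheory CategoryTheory.Limits AlgebraicGeometry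

theorem finite_separable_residueField {X Y : Scheme.{u}} (f : Y ⟶ X) [IsFinite f] [Etale f] (y : Y) :
    letI : Algebra (X.residueField (f.base y)) (Y.residueField y) := (f.residueFieldMap y).hom.toAlgebra
    FiniteDimensional (X.residueField (f.base y)) (Y.residueField y) ∧
      Algebra.IsSeparable (X.residueField (f.base y)) (Y.residueField y) := by
  let L := Y.residueField y
  let K := X.residueField (f.base y)
  letI : Algebra K L := (f.residueFieldMap y).hom.toAlgebra
  let l := X.fromSpecResidueField (f.base y)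
  let P := pullback f l
  haveI : IsAffine P := isAffine_of_isAffineHom (pullback.snd f l)
  let B := Γ(P, ⊤)
  let φ : K ⟶ B := Spec.preimage (P.isoSpec.inv ≫ pullback.snd f l)
  have hφ : Spec.map φ = P.isoSpec.inv ≫ pullback.snd f l := Spec.map_preimage _
  have hfin : IsFinite (Spec.map φ) := by rw [hφ]; infer_instance
  have het : Etale (Spec.map φ) := by rw [hφ]; infer_instance
  rw [IsFinite.SpecMap_iff] at hfin
  rw [HasRingHomProperty.Spec_iff (P := @Etale)] at het
  have hw : Y.fromSpecResidueField y ≫ f = Spec.map (f.residueFieldMap y) ≫ l :=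
    (Scheme.Hom.SpecMap_residueFieldMap_fromSpecResidueField _ _).symm
  let t : Spec L ⟶ P := pullback.lift (Y.fromSpecResidueField y) (Spec.map (f.residueFieldMap y)) hw
  let ψ : B ⟶ L := Spec.preimage (t ≫ P.isoSpec.hom)
  have hψ : Spec.map ψ = t ≫ P.isoSpec.hom := Spec.map_preimage _
  have hψφ : φ ≫ ψ = f.residueFieldMap y := Spec.map_injective (by
    rw [Spec.map_comp, hψ, hφ, Category.assoc, Iso.hom_inv_id_assoc]
    exact pullback.lift_snd _ _ _)
  letI : Algebra K B := φ.hom.toAlgebra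
  haveI : Module.Finite K B := hfin
  haveI : Algebra.Etale K B := het
  let ψA : B →ₐ[K] L :=
    { ψ.hom with commutes' := fun a => RingHom.congr_fun (congrArg CommRingCat.Hom.hom hψφ) a }
  let T := ψA.range
  haveI : Module.Finite K T := Module.Finite.of_surjective ψA.rangeRestrict.toLinearMap ψA.rangeRestrict_surjective
  haveI : Algebra.FormallyUnramified K T := Algebra.FormallyUnramified.of_surjective ψA.rangeRestrict ψA.rangeRestrict_surjective
  have hT : IsField T := isField_of_isIntegral_of_isField' (Field.toIsField K)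
  letI : Field T := hT.toField
  haveI : Algebra.IsSeparable K T := Algebra.FormallyUnramified.isSeparable K T
  let ψ' : B ⟶ CommRingCat.of T := CommRingCat.ofHom ψA.rangeRestrict.toRingHom
  let j : CommRingCat.of T ⟶ L := CommRingCat.ofHom T.val.toRingHom
  let h : Spec (CommRingCat.of T) ⟶ Y := Spec.map ψ' ≫ P.isoSpec.inv ≫ pullback.fst f l
  have hj : Spec.map j ≫ h = Y.fromSpecResidueField y := by
    rw [← Spec.map_comp_assoc, show ψ' ≫ j = ψ from rfl, hψ, Category.assoc, Iso.hom_inv_id_assoc]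
    exact pullback.lift_fst _ _ _
  obtain ⟨⟨y', m⟩, hm⟩ := (Scheme.SpecToEquivOfField T Y).symm.surjective h
  have hEq : (⟨y', m ≫ j⟩ : Σ x, Y.residueField x ⟶ L) = ⟨y, 𝟙 _⟩ :=
    (Scheme.SpecToEquivOfField L Y).symm.injective (by
      rw [Scheme.SpecToEquivOfField_symm_apply] at hm
      show Spec.map (m ≫ j) ≫ Y.fromSpecResidueField y' = Spec.map (𝟙 L) ≫ Y.fromSpecResidueField y
      rw [Spec.map_comp_assoc, hm, hj, Spec.map_id, Category.id_comp])
  obtain ⟨rfl, hmj⟩ := Sigma.mk.inj hEq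
  have hs : Function.Surjective T.val := fun z =>
    ⟨m z, RingHom.congr_fun (congrArg CommRingCat.Hom.hom (eq_of_heq hmj)) z⟩
  exact ⟨Module.Finite.of_surjective T.val.toLinearMap hs,
    Algebra.IsSeparable.of_algHom K T (AlgEquiv.ofBijective T.val ⟨Subtype.val_injective, hs⟩).symm.toAlgHom⟩

/-- The residue extension of a cover with transitive automorphisms. -/
theorem isGalois_residueField {X : Scheme.{u}} (Z : FEt.Cat X) (z : Z.left)
    (htrans : ∀ (Ω : Type u) [Field Ω] [IsAlgClosed Ω] (ξ : Spec (CommRingCat.of Ω) ⟶ X)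
      (s t : FEt.fiberObj ξ Z), ∃ σ : Aut Z, (FEt.fiber ξ).map σ.hom s = t) :
    letI : Algebra (X.residueField (Z.hom.base z)) (Z.left.residueField z) := (Z.hom.residueFieldMap z).hom.toAlgebra
    FiniteDimensional (X.residueField (Z.hom.base z)) (Z.left.residueField z) ∧
      IsGalois (X.residueField (Z.hom.base z)) (Z.left.residueField z) ∧
      Module.finrank (X.residueField (Z.hom.base z)) (Z.left.residueField z) ∣ Nat.card (Aut Z) := by
  haveI : IsFinite Z.hom := Z.prop.1
  haveI : Etale Z.hom := Z.prop.2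
  let L := Z.left.residueField z
  let K := X.residueField (Z.hom.base z)
  letI : Algebra K L := (Z.hom.residueFieldMap z).hom.toAlgebra
  obtain ⟨hfd, hsep⟩ : FiniteDimensional K L ∧ Algebra.IsSeparable K L := finite_separable_residueField Z.hom z
  let Ω := AlgebraicClosure L
  let fr := Z.left.fromSpecResidueField z
  have hfr : Spec.map (Z.hom.residueFieldMap z) ≫ X.fromSpecResidueField (Z.hom.base z) = fr ≫ Z.hom :=
    Scheme.Hom.SpecMap_residueFieldMap_fromSpecResidueField _ _
  have hinj : ∀ {F : Type u} [Field F] (a b : L ⟶ CommRingCat.of F), Spec.map a ≫ fr = Spec.map b ≫ fr → a = b := by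
    intro F _ a b hab
    have h1 := (Scheme.SpecToEquivOfField F Z.left).symm.injective
      (a₁ := (⟨z, a⟩ : Σ x, Z.left.residueField x ⟶ CommRingCat.of F)) (a₂ := ⟨z, b⟩) hab
    exact eq_of_heq (Sigma.mk.inj h1).2
  let Rel : Aut Z → (L ≃ₐ[K] L) → Prop := fun σ g =>
    Spec.map (CommRingCat.ofHom g.symm.toAlgHom.toRingHom) ≫ fr = fr ≫ σ.hom.left
  have hmul : ∀ σ τ g g', Rel σ g → Rel τ g' → Rel (σ * τ) (g * g') := by
    intro σ τ g g' h₁ h₂
    show Spec.map (CommRingCat.ofHom g.symm.toAlgHom.toRingHom ≫ CommRingCat.ofHom g'.symm.toAlgHom.toRingHom) ≫ fr =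
      fr ≫ τ.hom.left ≫ σ.hom.left
    rw [← reassoc_of% h₂, Spec.map_comp, Category.assoc, h₁]
  have hone : Rel 1 1 := by
    show Spec.map (𝟙 L) ≫ fr = fr ≫ 𝟙 Z.left
    rw [Spec.map_id, Category.id_comp, Category.comp_id]
  have hinv : ∀ σ g, Rel σ g → Rel σ⁻¹ g⁻¹ := by
    intro σ g h
    show Spec.map _ ≫ fr = fr ≫ σ.inv.left
    have h2 : Spec.map (CommRingCat.ofHom g.toAlgHom.toRingHom) ≫ Spec.map (CommRingCat.ofHom g.symm.toAlgHom.toRingHom) = 𝟙 _ := by
      rw [← Spec.map_comp, ← Spec.map_id]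
      exact congrArg Spec.map (CommRingCat.hom_ext (RingHom.ext fun x => g.apply_symm_apply x))
    have h3 : σ.hom.left ≫ σ.inv.left = 𝟙 _ := congrArg (fun e : Z ⟶ Z => e.left) σ.hom_inv_id
    calc Spec.map (CommRingCat.ofHom (g⁻¹).symm.toAlgHom.toRingHom) ≫ fr
        = Spec.map (CommRingCat.ofHom g.toAlgHom.toRingHom) ≫ (fr ≫ σ.hom.left) ≫ σ.inv.left := by
          rw [Category.assoc, h3, Category.comp_id]; rfl
      _ = fr ≫ σ.inv.left := by rw [← h, Category.assoc, reassoc_of% h2]
  let Γg : Subgroup (Aut Z × (L ≃ₐ[K] L)) :=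
    { carrier := {p | Rel p.1 p.2}
      mul_mem' := fun {p q} hp hq => hmul _ _ _ _ hp hq
      one_mem' := hone
      inv_mem' := fun {p} hp => hinv _ _ hp }
  let p₁ : Γg →* Aut Z := (MonoidHom.fst _ _).comp Γg.subtype
  let p₂ : Γg →* (L ≃ₐ[K] L) := (MonoidHom.snd _ _).comp Γg.subtype
  have hp₁ : Function.Injective p₁ := fun a b h => Subtype.ext (Prod.ext h (by
    have ha : Spec.map (CommRingCat.ofHom a.1.2.symm.toAlgHom.toRingHom) ≫ fr = fr ≫ a.1.1.hom.left := a.2
    have hb : Spec.map (CommRingCat.ofHom b.1.2.symm.toAlgHom.toRingHom) ≫ fr = fr ≫ b.1.1.hom.left := b.2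
    rw [show a.1.1 = b.1.1 from h] at ha
    have h1 := hinj (F := L) _ _ (ha.trans hb.symm)
    have h2 : a.1.2.symm = b.1.2.symm := AlgEquiv.ext fun x => RingHom.congr_fun (congrArg CommRingCat.Hom.hom h1) x
    exact AlgEquiv.symm_bijective.injective h2))
  -- every embedding is a translate of the standard one
  let ι : L →ₐ[K] Ω := IsScalarTower.toAlgHom K L Ω
  have key : ∀ τ : L →ₐ[K] Ω, ∃ p : Γg, ∀ x, ι ((p₂ p).symm x) = τ x := by
    intro τ
    let ξ : Spec (CommRingCat.of Ω) ⟶ X :=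
      Spec.map (CommRingCat.ofHom (algebraMap K Ω)) ≫ X.fromSpecResidueField (Z.hom.base z)
    have hmem : ∀ τ : L →ₐ[K] Ω, (Spec.map (CommRingCat.ofHom τ.toRingHom) ≫ fr) ≫ Z.hom = ξ := fun τ => by
      rw [Category.assoc, ← hfr, ← Spec.map_comp_assoc]
      congr 2
      exact CommRingCat.hom_ext (RingHom.ext τ.commutes)
    obtain ⟨σ, hσ⟩ := htrans Ω ξ ⟨_, hmem ι⟩ ⟨_, hmem τ⟩
    have hσ' : (Spec.map (CommRingCat.ofHom ι.toRingHom) ≫ fr) ≫ σ.hom.left = Spec.map (CommRingCat.ofHom τ.toRingHom) ≫ fr :=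
      congrArg Subtype.val hσ
    obtain ⟨⟨y, m⟩, hm⟩ := (Scheme.SpecToEquivOfField L Z.left).symm.surjective (fr ≫ σ.hom.left)
    rw [Scheme.SpecToEquivOfField_symm_apply] at hm
    have hEq : (⟨y, m ≫ CommRingCat.ofHom ι.toRingHom⟩ : Σ x, Z.left.residueField x ⟶ CommRingCat.of Ω) = ⟨z, CommRingCat.ofHom τ.toRingHom⟩ :=
      (Scheme.SpecToEquivOfField Ω Z.left).symm.injective (by
        show Spec.map (m ≫ CommRingCat.ofHom ι.toRingHom) ≫ Z.left.fromSpecResidueField y = _
        rw [Spec.map_comp_assoc, hm, ← Category.assoc, hσ']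
        rfl)
    obtain ⟨rfl, hmι⟩ := Sigma.mk.inj hEq
    have hmτ : ∀ x, ι (m x) = τ x := fun x => RingHom.congr_fun (congrArg CommRingCat.Hom.hom (eq_of_heq hmι)) x
    let g₀ : L →ₐ[K] L := { m.hom with commutes' := fun a => ι.toRingHom.injective ((hmτ _).trans ((τ.commutes a).trans (ι.commutes a).symm)) }
    let g : L ≃ₐ[K] L := AlgEquiv.ofBijective g₀ g₀.bijective
    have hg : Rel σ g.symm := by
      show Spec.map m ≫ fr = fr ≫ σ.hom.left
      exact hm
    exact ⟨⟨(σ, g.symm), hg⟩, fun x => hmτ x⟩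
  have hp₂ : Function.Surjective p₂ := fun g => by
    obtain ⟨p, hp⟩ := key (ι.comp g.symm.toAlgHom)
    exact ⟨p, AlgEquiv.symm_bijective.injective (AlgEquiv.ext fun x => ι.toRingHom.injective (hp x))⟩
  have hcard : Nat.card (L ≃ₐ[K] L) = Module.finrank K L := by
    let R : (L ≃ₐ[K] L) → (L →ₐ[K] Ω) := fun g => ι.comp g.symm.toAlgHom
    have hR : Function.Bijective R := ⟨fun a b h => AlgEquiv.symm_bijective.injective
      (AlgEquiv.ext fun x => ι.toRingHom.injective (DFunLike.congr_fun h x)), fun τ => by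
      obtain ⟨p, hp⟩ := key τ
      exact ⟨p₂ p, AlgHom.ext hp⟩⟩
    rw [Nat.card_congr (Equiv.ofBijective R hR), Nat.card_eq_fintype_card]
    exact AlgHom.card K L Ω
  refine ⟨hfd, IsGalois.of_card_aut_eq_finrank K L hcard, hcard ▸ ?_⟩
  exact (Subgroup.card_dvd_of_surjective p₂ hp₂).trans (Subgroup.card_dvd_of_injective p₁ hp₁)

end EtRamTameLib
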