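import Groth.Agent.SolSepLib.Abhyankar
import Mathlib.FieldTheory.Perfect
import Mathlib.FieldTheory.IsAlgClosed.AlgebraicClosure

/-! Algebraic geometrically reduced field extensions are separable. -/

set_option autoImplicit false
universe u

noncomputable section

namespace EtRamTameLib

open Polynomial
open scoped TensorProduct

theorem isSeparable_of_geomRed {k F : Type u} [Field k] [Field F] [Algebra k F] [Algebra.IsAlgebraic k F]
    [Algebra.IsGeometricallyReduced k F] : Algebra.IsSeparable k F := by
  refine ⟨fun a => ?_⟩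
  let Ω := AlgebraicClosure k
  let m := minpoly k a
  have hint : IsIntegral k a := (Algebra.IsAlgebraic.isAlgebraic a).isIntegral
  have hm : m.Monic := minpoly.monic hint
  let i : AdjoinRoot m →ₐ[k] F := AdjoinRoot.liftAlgHom m (Algebra.ofId k F) a (minpoly.aeval k a)
  have hirr : Fact (Irreducible m) := ⟨minpoly.irreducible hint⟩
  have := Algebra.IsGeometricallyReduced.of_injective i i.toRingHom.injective
  have hred : IsReduced (Ω ⊗[k] AdjoinRoot m) := (Algebra.isGeometricallyReduced_field_iff k _).1 this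
  let q : (Ω ⊗[k] k)[X] := m.map (Algebra.TensorProduct.includeRight : k →ₐ[k] Ω ⊗[k] k).toRingHom
  let g : Polynomial Ω := m.map (algebraMap k Ω)
  have hq : IsReduced (AdjoinRoot q) :=
    isReduced_of_injective _ (AdjoinRoot.tensorAlgEquiv m q rfl).symm.injective
  let e : Ω ⊗[k] k ≃+* Ω := (Algebra.TensorProduct.rid k k Ω).toRingEquiv
  have hg : q.map (e : Ω ⊗[k] k →+* Ω) = g := by
    rw [Polynomial.map_map]
    exact congrArg (fun σ => m.map σ) (RingHom.ext fun c => by
      show Algebra.TensorProduct.rid k k Ω ((1 : Ω) ⊗ₜ c) = _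
      rw [Algebra.TensorProduct.rid_tmul, Algebra.smul_def, mul_one])
  have hgred : IsReduced (AdjoinRoot g) :=
    isReduced_of_injective _ (AdjoinRoot.mapRingEquiv e q g (by rw [hg])).symm.injective
  have hsq : Squarefree g := by
    intro d ⟨c, hc⟩
    have hg0 : g ≠ 0 := (hm.map _).ne_zero
    have h0 : AdjoinRoot.mk g (d * c) = 0 := IsReduced.eq_zero _ ⟨2, by
      rw [← map_pow, AdjoinRoot.mk_eq_zero]
      exact ⟨c, by rw [hc]; ring⟩⟩
    obtain ⟨b, hb⟩ := AdjoinRoot.mk_eq_zero.1 h0
    refine IsUnit.of_mul_eq_one b (mul_left_cancel₀ (mul_ne_zero_iff.1 (hc ▸ hg0 : d * d * c ≠ 0)).2 ?_)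
    have h1 : d * c * 1 = d * c * (d * b) := by
      rw [mul_one]; conv_lhs => rw [hb, hc]
      ring
    have hd : d ≠ 0 := fun h => hg0 (by rw [hc, h, zero_mul, zero_mul])
    have h2 : c * (d * b) = c * 1 := by
      refine mul_left_cancel₀ hd ?_
      linear_combination -h1
    exact h2
  show m.Separable
  exact (separable_map (algebraMap k Ω)).1 (PerfectField.separable_iff_squarefree.2 hsq)

end EtRamTameLib
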