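import Groth.Agent.EtRamTameLib.Tower
import Groth.Agent.EtRamTameLib.Sep
import Groth.Agent.ASWeakLib.Core
import Groth.Agent.SHDescLib.Tools

/-! Extensions by radicals. -/

set_option autoImplicit false
universe u

noncomputable section

namespace EtRamTameLib

open IsLocalRing Polynomial

variable {A K L : Type u} [CommRing A] [IsDomain A] [IsDiscreteValuationRing A] [Field K] [Algebra A K]
  [IsFractionRing A K] [Field L] [Algebra K L]

/-- Indices are bounded by the degree. -/
theorem idx_le_finrank [FiniteDimensional K L] (V : ValuationSubring L)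
    (hV : EtRam.Dominates A ((algebraMap K L).comp (algebraMap A K)) V) :
    letI : Algebra A V := (RingHom.codRestrict ((algebraMap K L).comp (algebraMap A K)) V hV.1).toAlgebra
    ∀ [IsLocalHom (algebraMap A V)],
    Ideal.ramificationIdx' (maximalIdeal A) (maximalIdeal V) ≤ Module.finrank K L := by
  classical
  letI : Algebra A V := (RingHom.codRestrict ((algebraMap K L).comp (algebraMap A K)) V hV.1).toAlgebra
  intro _
  let g := (algebraMap K L).comp (algebraMap A K)
  have hinj : Function.Injective g := (algebraMap K L).injective.comp (IsFractionRing.injective A K)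
  have := isDVR (A := A) (K := K) V hV
  obtain ⟨π, hπ⟩ := IsDiscreteValuationRing.exists_irreducible A
  obtain ⟨ϖ, hϖ⟩ := IsDiscreteValuationRing.exists_irreducible V
  obtain ⟨e, v, he, hv, hidx⟩ := exists_idx (A := A) (V := V) (fun a b h => hinj (congrArg Subtype.val h)) hπ hϖ
  rw [hidx]
  have hϖ0 : (ϖ : L) ≠ 0 := fun h => hϖ.ne_zero (Subtype.ext h)
  have hlayer : EtRamStepLib.Layer V g e (ϖ : L) (fun _ : Unit => (1 : L)) π := by
    refine ⟨hπ, hϖ0, (V.valuation_lt_one_iff ϖ).1 hϖ.not_isUnit, ?_, EtRamStepLib.indep_unique V hV⟩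
    have h1 := congrArg (fun w : V => V.valuation (w : L)) hv
    simp only [MulMemClass.coe_mul, SubmonoidClass.coe_pow, map_mul, map_pow, (V.valuation_eq_one_iff _).1 v.isUnit, one_mul] at h1
    exact h1
  have hli : LinearIndependent K (fun i : Fin e => (ϖ : L) ^ (i : ℕ)) := by
    refine Fintype.linearIndependent_iff.2 fun l hl0 => ?_
    by_contra hne
    push Not at hne
    obtain ⟨i₀, hi₀⟩ := hne
    obtain ⟨⟨s, hs⟩, hden⟩ := IsLocalization.exist_integer_multiples_of_finite (nonZeroDivisors A) l
    choose al hal using hden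
    have hs0 : algebraMap A K s ≠ 0 := (map_ne_zero_iff _ (IsFractionRing.injective A K)).2 (nonZeroDivisors.ne_zero hs)
    obtain ⟨m, hm, -⟩ := hlayer.sum he (fun i _ => al i) ⟨i₀, (), fun h0 => hi₀ (by
      have := hal i₀
      rw [h0, map_zero, Algebra.smul_def, eq_comm, mul_eq_zero] at this
      exact this.resolve_left hs0)⟩
    have hzero : ∑ i : Fin e, (ϖ : L) ^ (i : ℕ) * ∑ _ : Unit, g (al i) * (1 : L) = 0 := by
      have : algebraMap K L (algebraMap A K s) * (∑ i, l i • (ϖ : L) ^ (i : ℕ)) = 0 := by rw [hl0, mul_zero]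
      rw [Finset.mul_sum] at this
      rw [← this]
      refine Finset.sum_congr rfl fun i _ => ?_
      simp only [g, Finset.univ_unique, Finset.sum_singleton, mul_one, RingHom.comp_apply, hal, Algebra.smul_def, map_mul]
      ring
    rw [hzero, map_zero] at hm
    exact pow_ne_zero m ((_root_.map_ne_zero _).2 hlayer.pos) hm.symm
  simpa using hli.fintype_card_le_finrank

/-- A root of the uniformiser of order `e` makes `e` divide the index. -/
theorem dvd_idx_of_pow [FiniteDimensional K L] (V : ValuationSubring L)
    (hV : EtRam.Dominates A ((algebraMap K L).comp (algebraMap A K)) V) {π : A} (hπ : Irreducible π) {x : L} {e : ℕ}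
    (hx : x ^ e = algebraMap K L (algebraMap A K π)) :
    letI : Algebra A V := (RingHom.codRestrict ((algebraMap K L).comp (algebraMap A K)) V hV.1).toAlgebra
    ∀ [IsLocalHom (algebraMap A V)],
    e ∣ Ideal.ramificationIdx' (maximalIdeal A) (maximalIdeal V) := by
  letI : Algebra A V := (RingHom.codRestrict ((algebraMap K L).comp (algebraMap A K)) V hV.1).toAlgebra
  intro _
  have := isDVR (A := A) (K := K) V hV
  have hlt : V.valuation (x ^ e) < 1 := hx ▸ hV.2 π hπ.not_isUnit
  have hxV : V.valuation x ≤ 1 := by
    by_contra hgt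
    rw [map_pow] at hlt
    exact not_le.2 hlt (one_le_pow₀ (not_le.1 hgt).le)
  let X₀ : V := ⟨x, (V.valuation_le_one_iff _).1 hxV⟩
  have hX : X₀ ≠ 0 := fun h => by
    have h1 : x = 0 := congrArg Subtype.val h
    rcases Nat.eq_zero_or_pos e with rfl | he
    · rw [pow_zero, map_one] at hlt; exact lt_irrefl _ hlt
    rw [h1, zero_pow he.ne', eq_comm, map_eq_zero] at hx
    exact hπ.ne_zero (IsFractionRing.injective A K (by rw [map_zero]; exact hx))
  obtain ⟨ϖ, hϖ⟩ := IsDiscreteValuationRing.exists_irreducible V
  obtain ⟨k, w, hw⟩ := IsDiscreteValuationRing.eq_unit_mul_pow_irreducible hX hϖ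
  have h1 : algebraMap A V π = X₀ ^ e := Subtype.ext hx.symm
  rw [hw, mul_pow, ← pow_mul] at h1
  exact ⟨k, (SolSepLib.ramIdx_eq hπ hϖ.maximalIdeal_eq hϖ.ne_zero (w.isUnit.pow e) h1).trans (mul_comm _ _)⟩

/-- The field generated by a root of the uniformiser. -/
theorem radical {x : L} (hgen : IntermediateField.adjoin K ({x} : Set L) = ⊤) {π : A} (hπ : Irreducible π) {e : ℕ}
    (he : 0 < e) (hx : x ^ e = algebraMap K L (algebraMap A K π)) :
    FiniteDimensional K L ∧ Module.finrank K L = e ∧
      ∀ (V : ValuationSubring L) (hV : EtRam.Dominates A ((algebraMap K L).comp (algebraMap A K)) V),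
        letI : Algebra A V := (RingHom.codRestrict ((algebraMap K L).comp (algebraMap A K)) V hV.1).toAlgebra
        ∀ [IsLocalHom (algebraMap A V)],
        Ideal.ramificationIdx' (maximalIdeal A) (maximalIdeal V) = e ∧
          Algebra.IsSeparable (ResidueField A) (ResidueField V) := by
  have hroot : aeval x (X ^ e - C (algebraMap A K π)) = 0 := by
    simp only [map_sub, map_pow, aeval_X, aeval_C]
    exact sub_eq_zero.2 hx
  have hint : IsIntegral K x := ⟨_, monic_X_pow_sub_C _ he.ne', by rw [← aeval_def]; exact hroot⟩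
  have hfd : FiniteDimensional K L := by
    have h1 := IntermediateField.adjoin.finiteDimensional hint
    rw [hgen] at h1
    exact IntermediateField.topEquiv.toLinearEquiv.finiteDimensional
  have hle : Module.finrank K L ≤ e := by
    have h1 := IntermediateField.adjoin.finrank hint
    rw [hgen, IntermediateField.finrank_top'] at h1
    rw [h1]
    refine (Polynomial.natDegree_le_of_dvd (minpoly.dvd K x hroot) (monic_X_pow_sub_C _ he.ne').ne_zero).trans ?_
    rw [natDegree_X_pow_sub_C]
  have hidx : ∀ (V : ValuationSubring L) (hV : EtRam.Dominates A ((algebraMap K L).comp (algebraMap A K)) V),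
      letI : Algebra A V := (RingHom.codRestrict ((algebraMap K L).comp (algebraMap A K)) V hV.1).toAlgebra
      ∀ [IsLocalHom (algebraMap A V)],
      Ideal.ramificationIdx' (maximalIdeal A) (maximalIdeal V) = e ∧ Module.finrank K L = e := by
    intro V hV
    letI : Algebra A V := (RingHom.codRestrict ((algebraMap K L).comp (algebraMap A K)) V hV.1).toAlgebra
    intro _
    have h1 := Nat.le_of_dvd (basic V hV).1 (dvd_idx_of_pow V hV hπ hx)
    have h2 := idx_le_finrank V hV
    omega
  have hrank : Module.finrank K L = e := by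
    obtain ⟨V, hV⟩ := ASWeakLib.exists_dominating ((algebraMap K L).comp (algebraMap A K))
      ((algebraMap K L).injective.comp (IsFractionRing.injective A K))
    exact (@hidx V hV (isLocalHom_of_dominates V hV)).2
  refine ⟨hfd, hrank, fun V hV => ?_⟩
  letI : Algebra A V := (RingHom.codRestrict ((algebraMap K L).comp (algebraMap A K)) V hV.1).toAlgebra
  intro _
  refine ⟨(hidx V hV).1, ?_⟩
  have hTR : ASWeakLib.TRData A K L π e x := ⟨hπ, he, hrank, fun Ω _ W j hW => by
    have hlt : W.valuation (j (algebraMap K L (algebraMap A K π))) < 1 := hW.2 π hπ.not_isUnit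
    have hv : W.valuation (j (algebraMap K L (algebraMap A K π))) = W.valuation (j x) ^ e := by
      rw [← hx, map_pow, map_pow]
    refine ⟨?_, hv⟩
    by_contra hge
    exact not_le.2 hlt (le_of_le_of_eq (one_le_pow₀ (not_lt.1 hge)) hv.symm)⟩
  refine ⟨fun c => ?_⟩
  obtain ⟨a, rfl⟩ := hTR.totallyRamified.2.2 V hV c
  exact isSeparable_algebraMap (residue A a)

/-- A simple root of a monic polynomial generates an unramified extension. -/
theorem unramified_of_root [FiniteDimensional K L] (g : A[X]) (hg : g.Monic) (hsep : (g.map (residue A)).Separable)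
    (hgsep : (g.map (algebraMap A K)).Separable) {r : L} (hgen : IntermediateField.adjoin K ({r} : Set L) = ⊤)
    (hr : g.eval₂ ((algebraMap K L).comp (algebraMap A K)) r = 0) :
    EtRam.IsUnramifiedExt A ((algebraMap K L).comp (algebraMap A K)) := by
  intro V hV
  letI : Algebra A V := (RingHom.codRestrict ((algebraMap K L).comp (algebraMap A K)) V hV.1).toAlgebra
  intro hloc
  obtain ⟨π, hπ⟩ := IsDiscreteValuationRing.exists_irreducible A
  have hres : ∀ a : A, algebraMap (ResidueField A) (ResidueField V) (residue A a) =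
      residue V ⟨algebraMap K L (algebraMap A K a), hV.1 a⟩ := fun a => rfl
  have hbot := SHDescLib.unr_bot (A := A) hV hres
  let O := V.comap (⊥ : IntermediateField K L).val.toRingHom
  let toO : A →+* O := ((algebraMap K (⊥ : IntermediateField K L)).comp (algebraMap A K)).codRestrict
    O.toSubring fun a => hV.1 a
  have hlO : IsLocalHom toO := ⟨fun a ha => by
    by_contra hn
    exact ((V.valuation_lt_one_iff (EtRam.inclOfComap V (⊥ : IntermediateField K L).val.toRingHom (toO a))).2 (hV.2 a hn))
      (ha.map _)⟩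
  have hmon : (g.map toO).Monic := hg.map _
  have hs1 : ((g.map toO).map (residue O)).Separable := by
    rw [Polynomial.map_map, show (residue O).comp toO = (ResidueField.map toO).comp (residue A) from
      RingHom.ext fun a => (ResidueField.map_residue toO a).symm, ← Polynomial.map_map]
    exact hsep.map
  have hs2 : ((g.map toO).map O.subtype).Separable := by
    rw [Polynomial.map_map, show O.subtype.comp toO =
      (algebraMap K (⊥ : IntermediateField K L)).comp (algebraMap A K) from rfl, ← Polynomial.map_map]
    exact hgsep.map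
  obtain ⟨F', -, hrF, hF'⟩ := hbot.simpleRoot hV hres _ hmon hs1 hs2 (r := r) (by rw [eval₂_map]; exact hr)
  have htop : F' = ⊤ := top_unique (hgen ▸ IntermediateField.adjoin_simple_le_iff.2 hrF)
  refine ⟨(basic V hV).2.2 ?_, ⟨fun c => ?_⟩⟩
  · have := isDVR (A := A) (K := K) V hV
    obtain ⟨ϖ, hϖ⟩ := IsDiscreteValuationRing.exists_irreducible V
    obtain ⟨e, v, he, hv, hidx⟩ := exists_idx (A := A) (V := V)
      (fun a b h => IsFractionRing.injective A K ((algebraMap K L).injective (congrArg Subtype.val h))) hπ hϖ
    rw [hidx]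
    obtain ⟨k, hk⟩ := hF'.val π hπ (ϖ : L) (htop ▸ trivial) fun h => hϖ.ne_zero (Subtype.ext h)
    have h1 := congrArg (fun w : V => V.valuation (w : L)) hv
    simp only [MulMemClass.coe_mul, SubmonoidClass.coe_pow, map_mul, map_pow, (V.valuation_eq_one_iff _).1 v.isUnit, one_mul] at h1
    change V.valuation (algebraMap K L (algebraMap A K π)) = _ at h1
    rw [h1, ← zpow_natCast, ← zpow_mul] at hk
    have h0 : 0 < V.valuation (ϖ : L) := zero_lt_iff.2 ((_root_.map_ne_zero _).2 fun h => hϖ.ne_zero (Subtype.ext h))
    have h2 : (1 : ℤ) = e * k :=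
      (zpow_right_strictAnti₀ h0 ((V.valuation_lt_one_iff ϖ).1 hϖ.not_isUnit)).injective ((zpow_one _).trans hk)
    have h3 : (e : ℤ) ∣ 1 := ⟨k, h2⟩
    exact_mod_cast Int.eq_one_of_dvd_one (by positivity) h3
  · obtain ⟨w, rfl⟩ := residue_surjective c
    exact mem_separableClosure_iff.1 (hF'.res w (htop ▸ trivial))

end EtRamTameLib
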