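import Groth.Agent.SolSepLib.Abhyankar
import Groth.Agent.SHDescLib.Restrict
import Mathlib.FieldTheory.SeparableDegree

/-! Ramification indices and residue extensions in towers of valuations. -/

set_option autoImplicit false
universe u

noncomputable section

namespace EtRamTameLib

open IsLocalRing

section DVR

variable {A V W : Type u} [CommRing A] [IsDomain A] [IsDiscreteValuationRing A] [CommRing V] [IsDomain V]
  [IsDiscreteValuationRing V] [CommRing W] [IsDomain W] [IsDiscreteValuationRing W] [Algebra A V] [Algebra V W] [Algebra A W]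
  [IsScalarTower A V W] [IsLocalHom (algebraMap A V)] [IsLocalHom (algebraMap V W)]

theorem exists_idx (hinj : Function.Injective (algebraMap A V)) {π : A} (hπ : Irreducible π) {ϖ : V} (hϖ : Irreducible ϖ) :
    ∃ (e : ℕ) (v : Vˣ), 0 < e ∧ algebraMap A V π = v * ϖ ^ e ∧
      Ideal.ramificationIdx' (maximalIdeal A) (maximalIdeal V) = e := by
  obtain ⟨e, v, hv⟩ := IsDiscreteValuationRing.eq_unit_mul_pow_irreducible ((map_ne_zero_iff _ hinj).2 hπ.ne_zero) hϖ
  exact ⟨e, v, Nat.pos_of_ne_zero fun h0 => hπ.not_isUnit (IsUnit.of_map (algebraMap A V) π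
    (by rw [hv, h0, pow_zero, mul_one]; exact v.isUnit)), hv, SolSepLib.ramIdx_eq hπ hϖ.maximalIdeal_eq hϖ.ne_zero v.isUnit hv⟩

theorem idx_pos (hinj : Function.Injective (algebraMap A V)) : 0 < Ideal.ramificationIdx' (maximalIdeal A) (maximalIdeal V) := by
  obtain ⟨π, hπ⟩ := IsDiscreteValuationRing.exists_irreducible A
  obtain ⟨ϖ, hϖ⟩ := IsDiscreteValuationRing.exists_irreducible V
  obtain ⟨e, v, he, -, hidx⟩ := exists_idx hinj hπ hϖ
  exact hidx.symm ▸ he

theorem idx_tower (h₁ : Function.Injective (algebraMap A V)) (h₂ : Function.Injective (algebraMap V W)) :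
    Ideal.ramificationIdx' (maximalIdeal A) (maximalIdeal W) =
      Ideal.ramificationIdx' (maximalIdeal A) (maximalIdeal V) * Ideal.ramificationIdx' (maximalIdeal V) (maximalIdeal W) := by
  obtain ⟨π, hπ⟩ := IsDiscreteValuationRing.exists_irreducible A
  obtain ⟨ϖ, hϖ⟩ := IsDiscreteValuationRing.exists_irreducible V
  obtain ⟨ξ, hξ⟩ := IsDiscreteValuationRing.exists_irreducible W
  obtain ⟨e, v, -, hv, he⟩ := exists_idx h₁ hπ hϖ
  obtain ⟨e', v', -, hv', he'⟩ := exists_idx h₂ hϖ hξ
  rw [he, he']
  refine SolSepLib.ramIdx_eq hπ hξ.maximalIdeal_eq hξ.ne_zero (w := algebraMap V W v * (v' : W) ^ e)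
    ((v.isUnit.map _).mul (v'.isUnit.pow e)) ?_
  rw [IsScalarTower.algebraMap_apply A V W, hv, map_mul, map_pow, hv', mul_pow, ← pow_mul, mul_comm e' e, mul_assoc]

theorem weaklyUnramified_iff (hinj : Function.Injective (algebraMap A V)) :
    EtRam.IsWeaklyUnramified A V ↔ Ideal.ramificationIdx' (maximalIdeal A) (maximalIdeal V) = 1 := by
  obtain ⟨π, hπ⟩ := IsDiscreteValuationRing.exists_irreducible A
  obtain ⟨ϖ, hϖ⟩ := IsDiscreteValuationRing.exists_irreducible V
  obtain ⟨e, v, he, hv, hidx⟩ := exists_idx hinj hπ hϖ
  unfold EtRam.IsWeaklyUnramified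
  rw [hidx, hπ.maximalIdeal_eq, Ideal.map_span, Set.image_singleton, hv, Ideal.span_singleton_mul_left_unit v.isUnit,
    hϖ.maximalIdeal_eq]
  refine ⟨fun h => ?_, fun h => by rw [h, pow_one]⟩
  obtain ⟨c, hc⟩ := Ideal.mem_span_singleton.1 (h ▸ Ideal.mem_span_singleton_self ϖ : ϖ ∈ Ideal.span {ϖ ^ e})
  by_contra hne
  obtain ⟨d, rfl⟩ : ∃ d, e = d + 2 := ⟨e - 2, by omega⟩
  refine hϖ.not_isUnit (IsUnit.of_mul_eq_one (ϖ ^ d * c) (mul_left_cancel₀ hϖ.ne_zero ?_))
  rw [mul_one]
  conv_rhs => rw [hc]
  ring

theorem isScalarTower_residue [IsLocalHom (algebraMap A W)] :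
    IsScalarTower (ResidueField A) (ResidueField V) (ResidueField W) :=
  IsScalarTower.of_algebraMap_eq fun c => by
    obtain ⟨a, rfl⟩ := residue_surjective c
    show residue W (algebraMap A W a) = residue W (algebraMap V W (algebraMap A V a))
    rw [← IsScalarTower.algebraMap_apply]

theorem separable_tower [IsLocalHom (algebraMap A W)] :
    (Algebra.IsSeparable (ResidueField A) (ResidueField V) ∧ Algebra.IsSeparable (ResidueField V) (ResidueField W)) ↔
      Algebra.IsSeparable (ResidueField A) (ResidueField W) := by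
  have := isScalarTower_residue (A := A) (V := V) (W := W)
  refine ⟨fun ⟨h₁, h₂⟩ => Algebra.IsSeparable.trans (ResidueField A) (ResidueField V) (ResidueField W), fun h => ⟨?_, ?_⟩⟩
  · exact Algebra.isSeparable_tower_bot_of_isSeparable (ResidueField A) (ResidueField V) (ResidueField W)
  · exact Algebra.isSeparable_tower_top_of_isSeparable (ResidueField A) (ResidueField V) (ResidueField W)

end DVR

section Valuations

variable {A K L M : Type u} [CommRing A] [IsDomain A] [IsDiscreteValuationRing A] [Field K] [Algebra A K]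
  [IsFractionRing A K] [Field L] [Field M] [Algebra K L] [Algebra K M] [Algebra L M] [IsScalarTower K L M]

theorem isDVR [FiniteDimensional K L] (V : ValuationSubring L)
    (hV : EtRam.Dominates A ((algebraMap K L).comp (algebraMap A K)) V) : IsDiscreteValuationRing V := by
  obtain ⟨π, hπ⟩ := IsDiscreteValuationRing.exists_irreducible A
  obtain ⟨x, hU, -⟩ := SolSepLib.exists_unif V (RingHom.id L) (g := algebraMap K L) rfl hπ hV
  have h : V.comap (RingHom.id L) = V := SetLike.ext fun _ => Iff.rfl
  exact h ▸ hU.isDVR

theorem isLocalHom_of_dominates (V : ValuationSubring L) {g : A →+* L} (hV : EtRam.Dominates A g V) :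
    IsLocalHom (RingHom.codRestrict g V hV.1) := ⟨fun a ha => by
  by_contra hn
  exact ((V.valuation_lt_one_iff (RingHom.codRestrict g V hV.1 a)).2 (hV.2 a hn)) ha⟩

theorem dominates_comap (W : ValuationSubring M) (hW : EtRam.Dominates A ((algebraMap K M).comp (algebraMap A K)) W) :
    EtRam.Dominates A ((algebraMap K L).comp (algebraMap A K)) (W.comap (algebraMap L M)) := by
  have he : ∀ a, algebraMap L M (algebraMap K L (algebraMap A K a)) = algebraMap K M (algebraMap A K a) := fun a =>
    (IsScalarTower.algebraMap_apply K L M _).symm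
  refine ⟨fun a => ?_, fun a ha => (SHDescLib.valuation_comap_lt_one_iff W (algebraMap L M) _).2 ?_⟩
  · show algebraMap L M (algebraMap K L (algebraMap A K a)) ∈ W
    rw [he]; exact hW.1 a
  · show W.valuation (algebraMap L M (algebraMap K L (algebraMap A K a))) < 1
    rw [he]; exact hW.2 a ha

theorem dominates_top (W : ValuationSubring M) :
    EtRam.Dominates (W.comap (algebraMap L M)) ((algebraMap L M).comp (W.comap (algebraMap L M)).subtype) W :=
  ⟨fun z => z.2, fun z hz => (SHDescLib.valuation_comap_lt_one_iff W (algebraMap L M) _).1 (((W.comap (algebraMap L M)).valuation_lt_one_iff z).1 hz)⟩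

/-- Behaviour of the index and of the residues in a tower. -/
theorem tower [FiniteDimensional K M] (W : ValuationSubring M)
    (hW : EtRam.Dominates A ((algebraMap K M).comp (algebraMap A K)) W) :
    letI : Algebra A W := (RingHom.codRestrict ((algebraMap K M).comp (algebraMap A K)) W hW.1).toAlgebra
    letI : Algebra A (W.comap (algebraMap L M)) := (RingHom.codRestrict ((algebraMap K L).comp (algebraMap A K))
      (W.comap (algebraMap L M)) (dominates_comap W hW).1).toAlgebra
    letI : Algebra (W.comap (algebraMap L M)) W := (RingHom.codRestrict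
      ((algebraMap L M).comp (W.comap (algebraMap L M)).subtype) W (dominates_top W).1).toAlgebra
    ∀ [IsLocalHom (algebraMap A W)] [IsLocalHom (algebraMap A (W.comap (algebraMap L M)))]
      [IsLocalHom (algebraMap (W.comap (algebraMap L M)) W)],
    Ideal.ramificationIdx' (maximalIdeal A) (maximalIdeal W) =
        Ideal.ramificationIdx' (maximalIdeal A) (maximalIdeal (W.comap (algebraMap L M))) *
          Ideal.ramificationIdx' (maximalIdeal (W.comap (algebraMap L M))) (maximalIdeal W) ∧
      ((Algebra.IsSeparable (ResidueField A) (ResidueField (W.comap (algebraMap L M))) ∧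
          Algebra.IsSeparable (ResidueField (W.comap (algebraMap L M))) (ResidueField W)) ↔
        Algebra.IsSeparable (ResidueField A) (ResidueField W)) := by
  letI : Algebra A W := (RingHom.codRestrict ((algebraMap K M).comp (algebraMap A K)) W hW.1).toAlgebra
  letI : Algebra A (W.comap (algebraMap L M)) := (RingHom.codRestrict ((algebraMap K L).comp (algebraMap A K))
    (W.comap (algebraMap L M)) (dominates_comap W hW).1).toAlgebra
  letI : Algebra (W.comap (algebraMap L M)) W := (RingHom.codRestrict
    ((algebraMap L M).comp (W.comap (algebraMap L M)).subtype) W (dominates_top W).1).toAlgebra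
  intro _ _ _
  have : FiniteDimensional K L := FiniteDimensional.left K L M
  have := isDVR (A := A) (K := K) W hW
  have := isDVR (A := A) (K := K) (W.comap (algebraMap L M)) (dominates_comap W hW)
  have : IsScalarTower A (W.comap (algebraMap L M)) W := IsScalarTower.of_algebraMap_eq fun a =>
    Subtype.ext (IsScalarTower.algebraMap_apply K L M _)
  refine ⟨idx_tower (fun a b h => IsFractionRing.injective A K ((algebraMap K L).injective (congrArg Subtype.val h)))
    (fun a b h => Subtype.ext ((algebraMap L M).injective (congrArg Subtype.val h))), separable_tower⟩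

/-- Valuations of finite extensions have positive index, and are weakly unramified exactly for index one. -/
theorem basic [FiniteDimensional K L] (V : ValuationSubring L)
    (hV : EtRam.Dominates A ((algebraMap K L).comp (algebraMap A K)) V) :
    letI : Algebra A V := (RingHom.codRestrict ((algebraMap K L).comp (algebraMap A K)) V hV.1).toAlgebra
    ∀ [IsLocalHom (algebraMap A V)],
    0 < Ideal.ramificationIdx' (maximalIdeal A) (maximalIdeal V) ∧
      (EtRam.IsWeaklyUnramified A V ↔ Ideal.ramificationIdx' (maximalIdeal A) (maximalIdeal V) = 1) := by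
  letI : Algebra A V := (RingHom.codRestrict ((algebraMap K L).comp (algebraMap A K)) V hV.1).toAlgebra
  intro _
  have := isDVR (A := A) (K := K) V hV
  have hinj : Function.Injective (algebraMap A V) := fun a b h =>
    IsFractionRing.injective A K ((algebraMap K L).injective (congrArg Subtype.val h))
  exact ⟨idx_pos hinj, weaklyUnramified_iff hinj⟩

/-- The residue characteristic does not divide `e`. -/
theorem prime_to_iff {k : Type u} [Field k] {e : ℕ} (he : 0 < e) :
    (∀ p : ℕ, p.Prime → CharP k p → ¬ p ∣ e) ↔ (e : k) ≠ 0 := by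
  refine ⟨fun h h0 => ?_, fun h p hp hchar hdvd => h ((CharP.cast_eq_zero_iff k p e).2 hdvd)⟩
  obtain ⟨p, hchar⟩ := CharP.exists k
  rcases CharP.char_is_prime_or_zero k p with hp | rfl
  · exact h p hp hchar ((CharP.cast_eq_zero_iff k p e).1 h0)
  · have := CharP.charP_to_charZero k
    exact he.ne' (Nat.cast_eq_zero.1 h0)

end Valuations

end EtRamTameLib
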